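import Mathlib.FieldTheory.LinearDisjoint
import Mathlib.FieldTheory.Galois.Basic
import Mathlib.FieldTheory.IsAlgClosed.AlgebraicClosure
import Mathlib.FieldTheory.PrimitiveElement

/-!
# A finite Galois extension and an arbitrary extension with trivial intersection are linearly disjoint
-/

set_option autoImplicit false

open IntermediateField Module

namespace K934.LinDisj

variable {F E : Type*} [Field F] [Field E] [Algebra F E]

theorem aux (A B : IntermediateField F E) [IsGalois F A] [FiniteDimensional F A] (h₁ : A ⊔ B = ⊤)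
    (h₂ : A ⊓ B = ⊥) : A.LinearDisjoint B := by
  let pb := Field.powerBasisOfFiniteOfSeparable F A
  set α : A := pb.gen with hα
  have htop : adjoin B {(α : E)} = ⊤ := by
    rw [← restrictScalars_eq_top_iff (K := F), restrictScalars_adjoin, eq_top_iff, ← h₁]
    apply sup_le
    · intro x hx
      have h3 : (⟨x, hx⟩ : A) ∈ Algebra.adjoin F {α} := by
        rw [hα, pb.adjoin_gen_eq_top]; trivial
      have h4 : (Algebra.adjoin F {α}).map A.val ≤ (adjoin F ((B : Set E) ∪ {(α : E)})).toSubalgebra := by
        rw [← Algebra.adjoin_image, Set.image_singleton]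
        exact Algebra.adjoin_le (by
          rintro _ rfl
          exact subset_adjoin _ _ (Or.inr rfl))
      exact h4 ⟨_, h3, rfl⟩
    · intro x hx
      exact subset_adjoin _ _ (Or.inl hx)
  have hint : IsIntegral B (α : E) := by
    have h3 : IsIntegral F (α : E) := (IsIntegral.of_finite F α).map A.val
    exact h3.tower_top
  have hfin' : FiniteDimensional B (adjoin B {(α : E)}) := adjoin.finiteDimensional hint
  have hfin : FiniteDimensional B E := by
    rw [htop] at hfin'
    exact LinearEquiv.finiteDimensional (topEquiv (F := B) (E := E)).toLinearEquiv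
  have hgal : IsGalois B E := IsGalois.sup_right A B h₁
  have hcard : finrank F A = finrank B E := by
    rw [← IsGalois.card_aut_eq_finrank, ← IsGalois.card_aut_eq_finrank]
    exact (Nat.card_congr <| Equiv.ofBijective (restrictRestrictAlgEquivMapHom _ _ _ _)
      ⟨restrictRestrictAlgEquivMapHom_injective _ _ h₁,
        restrictRestrictAlgEquivMapHom_surjective _ _ h₂⟩).symm
  have hdeg : (minpoly B (α : E)).natDegree = pb.dim := by
    rw [← adjoin.finrank hint, htop, finrank_top', ← hcard, pb.finrank]
  refine LinearDisjoint.of_basis_left pb.basis ?_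
  have h5 := linearIndependent_pow (K := B) (α : E)
  rw [hdeg] at h5
  have h6 : A.val ∘ pb.basis = fun i : Fin pb.dim => (α : E) ^ (i : ℕ) := by
    funext i
    simp [hα]
  rw [h6]
  exact h5

/-- If `A/F` is finite Galois and `A ∩ B = F`, then `A` and `B` are linearly disjoint. -/
theorem of_inf_eq_bot (A B : IntermediateField F E) [IsGalois F A] [FiniteDimensional F A]
    (h : A ⊓ B = ⊥) : A.LinearDisjoint B := by
  let C : IntermediateField F E := A ⊔ B
  let A' : IntermediateField F C := A.restrict le_sup_left
  let B' : IntermediateField F C := B.restrict le_sup_right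
  have hA : IntermediateField.map C.val A' = A := lift_restrict le_sup_left
  have hB : IntermediateField.map C.val B' = B := lift_restrict le_sup_right
  suffices A'.LinearDisjoint B' from hA ▸ hB ▸ LinearDisjoint.map this C.val
  have h₁ : A' ⊔ B' = ⊤ := by
    rw [← lift_inj, lift_top, lift_sup, lift_restrict le_sup_left, lift_restrict le_sup_right]
  have h₂ : A' ⊓ B' = ⊥ := by
    rw [← lift_inj, lift_bot, lift_inf, lift_restrict le_sup_left, lift_restrict le_sup_right, h]
  have : IsGalois F A' := IsGalois.of_algEquiv <| restrictAlgEquiv ..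
  have : FiniteDimensional F A' := LinearEquiv.finiteDimensional
    (AlgEquiv.toLinearEquiv (restrictAlgEquiv (le_sup_left : A ≤ A ⊔ B)))
  exact aux A' B' h₁ h₂

/-- The tensor product of a finite Galois extension `L` with an arbitrary extension `K` of `k` is a domain, or a subfield
`F ≠ k` of `L` embeds into `K`. -/
theorem domain_or_exists (k K L : Type*) [Field k] [Field K] [Field L] [Algebra k K] [Algebra k L]
    [FiniteDimensional k L] [IsGalois k L] :
    IsDomain (TensorProduct k L K) ∨ ∃ F : IntermediateField k L, F ≠ ⊥ ∧ Nonempty (F →ₐ[k] K) := by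
  let Ω := AlgebraicClosure K
  let σ : L →ₐ[k] Ω := IsAlgClosed.lift
  let τ : K →ₐ[k] Ω := IsScalarTower.toAlgHom k K Ω
  by_cases h : σ.fieldRange ⊓ τ.fieldRange = ⊥
  · left
    have e : L ≃ₐ[k] σ.fieldRange := AlgEquiv.ofInjectiveField σ
    have : IsGalois k σ.fieldRange := IsGalois.of_algEquiv e
    have : FiniteDimensional k σ.fieldRange := LinearEquiv.finiteDimensional e.toLinearEquiv
    exact LinearDisjoint.isDomain' (of_inf_eq_bot _ _ h)
  · right
    refine ⟨τ.fieldRange.comap σ, ?_, ?_⟩
    · intro h2
      apply h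
      rw [eq_bot_iff]
      rintro x ⟨⟨y, rfl⟩, hx⟩
      have h3 : y ∈ τ.fieldRange.comap σ := hx
      rw [h2] at h3
      obtain ⟨c, rfl⟩ := mem_bot.mp h3
      exact mem_bot.mpr ⟨c, by simp⟩
    · have e : K ≃ₐ[k] τ.fieldRange := AlgEquiv.ofInjectiveField τ
      let s : τ.fieldRange.comap σ →ₐ[k] τ.fieldRange :=
        (σ.comp (τ.fieldRange.comap σ).val).codRestrict τ.fieldRange.toSubalgebra (fun x => x.2)
      exact ⟨e.symm.toAlgHom.comp s⟩

end K934.LinDisj
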