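import Groth.Prelude.Def_CurvBase
import Groth.Prelude.Def_Pi1
import Groth.Agent.VarietyA.GeomIrrFib
import Groth.Agent.Ega2.Normal
import Groth.Agent.QsChow.K934.LinDisj
import Mathlib.AlgebraicGeometry.Morphisms.Finite

/-!
# A normal irreducible scheme whose base change to a finite Galois extension is not irreducible
-/

set_option autoImplicit false
universe u
open CategoryTheory CategoryTheory.Limits AlgebraicGeometry

namespace K934.GalFactor

open Groth.Agent.VarietyA

theorem isIso_residue {X : Scheme.{u}} [IsIntegral X] : IsIso (X.residue (genericPoint X)) := by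
  have h : Function.Bijective (X.residue (genericPoint X)).hom := by
    refine ⟨?_, ?_⟩
    · have : IsField (X.presheaf.stalk (genericPoint X)) := Field.toIsField X.functionField
      rw [injective_iff_map_eq_zero]
      intro a ha
      by_contra hne
      have hu : IsUnit a := by
        obtain ⟨b, hb⟩ := this.mul_inv_cancel hne
        exact IsUnit.of_mul_eq_one _ hb
      have := hu.map (X.residue (genericPoint X)).hom
      rw [ha] at this
      exact not_isUnit_zero this
    · exact IsLocalRing.residue_surjective
  exact (ConcreteCategory.isIso_iff_bijective _).mpr h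

theorem exists_factor (k : Type u) [Field k] (X : Scheme.{u}) [X.Over (Spec (CommRingCat.of k))]
    [IsIntegral X] (hX : Pi1.IsNormalScheme X)
    (L : Type u) [Field L] [Algebra k L] [FiniteDimensional k L] [IsGalois k L]
    (hred : ¬ IrreducibleSpace ↥(Curv2.bc k X L)) :
    ∃ F : IntermediateField k L, F ≠ ⊥ ∧
      ∃ g : X ⟶ Spec (CommRingCat.of F),
        g ≫ Spec.map (CommRingCat.ofHom (algebraMap k F)) = X ↘ Spec (CommRingCat.of k) := by
  letI : Algebra k (X.residueField (genericPoint X)) := Curv2.resAlgebra k X (genericPoint X)
  have h : X.fromSpecResidueField (genericPoint X) ≫ (X ↘ Spec (CommRingCat.of k)) =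
      Spec.map (CommRingCat.ofHom (algebraMap k (X.residueField (genericPoint X)))) :=
    (ResMap.specMap_resMap k X (genericPoint X)).symm
  rcases K934.LinDisj.domain_or_exists k (X.residueField (genericPoint X)) L with hdom | ⟨F, hF, ⟨φ⟩⟩
  · exfalso
    apply hred
    have h1 : IrreducibleSpace (PrimeSpectrum (TensorProduct k (X.residueField (genericPoint X)) L)) :=
      ((PrimeSpectrum.homeomorphOfRingEquiv
        (Algebra.TensorProduct.comm k (X.residueField (genericPoint X)) L).toRingEquiv).irreducibleSpace_iff).2
        inferInstance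
    have h2 : IrreducibleSpace ((pullback.fst (X ↘ Spec (CommRingCat.of k))
        (Spec.map (CommRingCat.ofHom (algebraMap k L)))).fiber (genericPoint X)) :=
      ((GeomIrr.fibreIso k _ L _ h).hom.homeomorph.irreducibleSpace_iff).2 h1
    exact GeomIrr.irreducibleSpace_of_fiber (pullback.fst (X ↘ Spec (CommRingCat.of k))
      (Spec.map (CommRingCat.ofHom (algebraMap k L))))
      (pullback.fst (X ↘ Spec (CommRingCat.of k)) (Spec.map (CommRingCat.ofHom (algebraMap k L)))).isOpenMap h2
  · refine ⟨F, hF, ?_⟩
    have hres := isIso_residue (X := X)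
    have hfin : IsFinite (Spec.map (CommRingCat.ofHom (algebraMap k F))) := by
      rw [IsFinite.SpecMap_iff]
      change (algebraMap k F).Finite
      rw [RingHom.finite_algebraMap]; infer_instance
    obtain ⟨ψ, hψ⟩ : ∃ ψ : CommRingCat.of F ⟶ X.residueField (genericPoint X),
        CommRingCat.ofHom (algebraMap k F) ≫ ψ =
          CommRingCat.ofHom (algebraMap k (X.residueField (genericPoint X))) :=
      ⟨CommRingCat.ofHom φ.toRingHom, by ext a; exact φ.commutes a⟩
    have hφ : Spec.map ψ ≫ Spec.map (CommRingCat.ofHom (algebraMap k F)) =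
        Spec.map (CommRingCat.ofHom (algebraMap k (X.residueField (genericPoint X)))) := by
      rw [← Spec.map_comp, hψ]
    have hinv : inv (Spec.map (X.residue (genericPoint X))) ≫ X.fromSpecResidueField (genericPoint X) =
        X.fromSpecStalk (genericPoint X) := by
      rw [Scheme.fromSpecResidueField, IsIso.inv_hom_id_assoc]
    have hw : X.fromSpecStalk (genericPoint X) ≫ (X ↘ Spec (CommRingCat.of k)) =
        (inv (Spec.map (X.residue (genericPoint X))) ≫ Spec.map ψ) ≫
          Spec.map (CommRingCat.ofHom (algebraMap k F)) := by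
      rw [← hinv, Category.assoc, Category.assoc, h, hφ]
    let t : Spec X.functionField ⟶ pullback (X ↘ Spec (CommRingCat.of k))
        (Spec.map (CommRingCat.ofHom (algebraMap k F))) :=
      pullback.lift (X.fromSpecStalk (genericPoint X))
        (inv (Spec.map (X.residue (genericPoint X))) ≫ Spec.map ψ) hw
    obtain ⟨s', hs', -⟩ := Groth.Agent.Ega2.Normal.exists_section_of_functionField_section hX
      (pullback.fst (X ↘ Spec (CommRingCat.of k)) (Spec.map (CommRingCat.ofHom (algebraMap k F)))) t
      (pullback.lift_fst _ _ _)
    refine ⟨s' ≫ pullback.snd _ _, ?_⟩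
    rw [Category.assoc, ← pullback.condition, reassoc_of% hs']

end K934.GalFactor
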