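import Groth.Prelude.Def_W4c4chowquasisplitNorm
import Groth.Agent.CycB.Push
import Groth.Agent.Sga2lef.H134.DimCl
import Mathlib.AlgebraicGeometry.Morphisms.Finite

/-!
# Norm subgroups and sections

If the projection `X_F ⟶ X` has a section for some intermediate field `F ≠ k` finite over `k`, then the norm subgroup is
everything.
-/

set_option autoImplicit false
universe u
open CategoryTheory CategoryTheory.Limits AlgebraicGeometry

namespace K934.NormSec

open Groth.Agent.CycB.RelDim Groth.Agent.CycB.Push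

theorem map_id' {X : Scheme.{u}} (t : X ⟶ X) (ht : t = 𝟙 X) [QuasiCompact t] (δ : X → ℤ) (α : AlgebraicCycle X ℤ) :
    AlgebraicCycle.map t δ δ α = α := by
  subst ht
  exact AlgebraicCycle.map_id δ α

theorem rtd_id {X : Scheme.{u}} (x : X) : rtd (𝟙 X) x = 0 :=
  rtd_eq_zero_of_isPreimmersion (𝟙 X) x

/-- push forward along a section and back. -/
theorem map_section {X Y : Scheme.{u}} (t : X ⟶ Y) (p : Y ⟶ X) (ht : t ≫ p = 𝟙 X) [IsIntegralHom p] [QuasiCompact t]
    (δ : X → ℤ) (α : AlgebraicCycle X ℤ) :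
    AlgebraicCycle.map p (δ ∘ ⇑p) δ (AlgebraicCycle.map t δ (δ ∘ ⇑p) α) = α := by
  have hpt : ∀ x, p (t x) = x := fun x => by rw [← Scheme.Hom.comp_apply, ht]; rfl
  have hp : Cyc.DeltaCompat p (δ ∘ ⇑p) δ := by
    rw [deltaCompat_iff]
    intro y
    refine ⟨0, ?_, ?_⟩
    · rw [Groth.Agent.Sga2lef.H134.DimCl.rtd_eq_zero_of_isIntegralHom p y]; simp
    · simp
  have htt : Cyc.DeltaCompat t δ (δ ∘ ⇑p) := by
    rw [deltaCompat_iff]
    intro x
    refine ⟨0, ?_, ?_⟩
    · have h := rtd_comp t p x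
      rw [ht, rtd_id] at h
      have h2 := (add_eq_zero.1 h.symm).2
      rw [h2]; simp
    · simp [hpt]
  rw [map_map δ (δ ∘ ⇑p) δ t p htt hp]
  exact map_id' _ ht δ α

theorem map_section_mem {X Y : Scheme.{u}} (t : X ⟶ Y) (p : Y ⟶ X) (ht : t ≫ p = 𝟙 X) [QuasiCompact t]
    (δ : X → ℤ) (j : ℤ) (α : AlgebraicCycle X ℤ) (hα : α ∈ Cyc.Zk X δ j) :
    AlgebraicCycle.map t δ (δ ∘ ⇑p) α ∈ Cyc.Zk Y (δ ∘ ⇑p) j := by
  intro y hy
  rw [map_apply]
  refine finsum_mem_eq_zero_of_forall_eq_zero ?_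
  rintro x rfl
  have hpt : p (t x) = x := by rw [← Scheme.Hom.comp_apply, ht]; rfl
  have : α x = 0 := hα x (by
    intro h; apply hy
    simp only [Function.comp_apply, hpt, h])
  rw [this, zero_mul]

theorem normSubgroup_eq_top (k : Type u) [Field k] (K : Type u) [Field K] [Algebra k K]
    (F : IntermediateField k K) [FiniteDimensional k F] (hF : F ≠ ⊥)
    (X : Scheme.{u}) [X.Over (Spec (CommRingCat.of k))] (g : X ⟶ Spec (CommRingCat.of F))
    (hg : g ≫ Spec.map (CommRingCat.ofHom (algebraMap k F)) = X ↘ Spec (CommRingCat.of k))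
    (δ : X → ℤ) (j : ℤ) : QsChow.normSubgroup k K X δ j = ⊤ := by
  let p : Curv2.bc k X F ⟶ X := Curv2.bcFst k X F
  let t : X ⟶ Curv2.bc k X F := pullback.lift (𝟙 X) g (by rw [Category.id_comp, hg])
  have ht : t ≫ p = 𝟙 X := pullback.lift_fst _ _ _
  have : IsFinite (Spec.map (CommRingCat.ofHom (algebraMap k F))) := by
    rw [IsFinite.SpecMap_iff]
    change (algebraMap k F).Finite
    rw [RingHom.finite_algebraMap]; infer_instance
  have : IsFinite p := inferInstanceAs (IsFinite (Limits.pullback.fst _ _))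
  have : QuasiCompact t := by
    have : QuasiCompact (t ≫ p) := by rw [ht]; infer_instance
    exact QuasiCompact.of_comp t p
  rw [eq_top_iff]
  rintro c -
  obtain ⟨⟨α, hα⟩, rfl⟩ := QuotientAddGroup.mk_surjective c
  refine AddSubgroup.subset_closure ?_
  have hmap := map_section t p ht δ α
  refine ⟨F, inferInstance, hF, AlgebraicCycle.map t δ (δ ∘ ⇑p) α, map_section_mem t p ht δ j α hα, ?_, ?_⟩
  · change AlgebraicCycle.map p (δ ∘ ⇑p) δ (AlgebraicCycle.map t δ (δ ∘ ⇑p) α) ∈ _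
    rw [hmap]; exact hα
  · have : (⟨α, hα⟩ : ↥(ChowOps.zk X δ j)) = ⟨AlgebraicCycle.map p (δ ∘ ⇑p) δ (AlgebraicCycle.map t δ (δ ∘ ⇑p) α),
        by rw [hmap]; exact hα⟩ := Subtype.ext hmap.symm
    rw [this]
    rfl

end K934.NormSec
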