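import Groth.Prelude.Def_W4c4chowquasisplitPn
import Mathlib.RingTheory.MvPolynomial.Ideal
import Mathlib.RingTheory.Ideal.Quotient.Operations
import Mathlib.RingTheory.MvPolynomial.Basic
import Mathlib.Algebra.CharP.Two
import Mathlib.Algebra.CharP.Algebra
import Mathlib.Algebra.Field.ZMod
import Mathlib.Tactic.Ring
import Mathlib.Tactic.LinearCombination

/-!
# The truncated algebra `P_n`: a basis adapted to the involution

`theta0 : FreeP n → P n` sends the standard monomial `X^f` to `ε_1^(f 0) ε_2^(f 1 % 2) ē_2^(f 1 / 2) ∏ ē_j^(f j)`.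
It is onto, and its kernel is the truncation ideal.
-/

set_option autoImplicit false

open MvPolynomial QsChow

namespace K934.PnBasic

section generic
universe w
variable {R : Type w} [CommRing R]

theorem dvd_gen (t : R) (a b : R) (h : ∀ (Q : Type w) [CommRing Q] (φ : R →+* Q), φ t = 0 → φ a = φ b) :
    t ∣ a - b := by
  have := h (R ⧸ Ideal.span {t}) (Ideal.Quotient.mk _)
    (Ideal.Quotient.eq_zero_iff_mem.mpr (Ideal.mem_span_singleton_self _))
  rw [Ideal.Quotient.eq, Ideal.mem_span_singleton] at this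
  exact this

theorem dvd_gen1 (t x : R) (c : ℕ) : t ∣ x ^ (c % 2) * (x ^ 2 + t * x) ^ (c / 2) - x ^ c := by
  refine dvd_gen t _ _ fun Q _ φ h0 => ?_
  simp only [map_mul, map_pow, map_add, h0, zero_mul, add_zero]
  rw [← pow_mul, ← pow_add, Nat.mod_add_div]

theorem dvd_gen2 (t x y : R) (c : ℕ) : t ∣ (x + t * y) ^ c - x ^ c := by
  refine dvd_gen t _ _ fun Q _ φ h0 => ?_
  simp only [map_mul, map_pow, map_add, h0, zero_mul, add_zero]

theorem dvd_prod_gen {ι : Type*} (t : R) (s : Finset ι) (a b : ι → R) (h : ∀ i ∈ s, t ∣ a i - b i) :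
    t ∣ ∏ i ∈ s, a i - ∏ i ∈ s, b i := by
  refine dvd_gen t _ _ fun Q _ φ h0 => ?_
  rw [map_prod, map_prod]
  refine Finset.prod_congr rfl fun i hi => ?_
  obtain ⟨r, hr⟩ := h i hi
  have := congrArg φ hr
  rwa [map_sub, map_mul, h0, zero_mul, sub_eq_zero] at this

end generic

section arith

theorem numVars_ge {n : ℕ} (hn : 2 ≤ n) : 2 ≤ numVars n := by unfold numVars; omega

theorem klog_spec {n : ℕ} (hn : 2 ≤ n) {j : ℕ} (hj : 2 ≤ j) : n ≤ (2 * j - 3) * 2 ^ klog n j := by
  unfold klog
  have h1 : (2 * n - 1) / (2 * j - 3) < 2 ^ (Nat.log 2 ((2 * n - 1) / (2 * j - 3)) + 1) :=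
    Nat.lt_pow_succ_log_self (by norm_num) _
  rw [Nat.div_lt_iff_lt_mul (by omega), pow_succ] at h1
  generalize 2 ^ Nat.log 2 ((2 * n - 1) / (2 * j - 3)) = K at *
  have : (2 * j - 3) * K * 2 > 2 * n - 1 := by
    calc (2 * j - 3) * K * 2 = K * 2 * (2 * j - 3) := by ring
      _ > _ := h1
  omega

theorem klog_pos {n : ℕ} (hn : 2 ≤ n) {j : ℕ} (hj : 2 ≤ j) (hj2 : j ≤ numVars n) : 1 ≤ klog n j := by
  unfold numVars at hj2
  unfold klog
  have h2 : 2 ≤ (2 * n - 1) / (2 * j - 3) := by
    rw [Nat.le_div_iff_mul_le (by omega)]; omega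
  exact Nat.log_pos (by norm_num) h2

theorem klog_le {n : ℕ} (hn : 2 ≤ n) {j : ℕ} (hj : 2 ≤ j) (hj2 : j ≤ numVars n) :
    (2 * j - 3) * 2 ^ klog n j ≤ 2 * n - 1 := by
  have h0 : 1 ≤ (2 * n - 1) / (2 * j - 3) := by
    rw [Nat.le_div_iff_mul_le (by omega)]; unfold numVars at hj2; omega
  have h1 : 2 ^ klog n j ≤ (2 * n - 1) / (2 * j - 3) := Nat.pow_log_le_self 2 (by omega)
  rw [Nat.le_div_iff_mul_le (by omega)] at h1
  rw [mul_comm]; exact h1

end arith

variable (n : ℕ)

/-- index of `ε_1`. -/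
def i0 : Fin (numVars n) := ⟨0, by unfold numVars; omega⟩

/-- index of `ε_2`. -/
def i1 [h : Fact (2 ≤ n)] : Fin (numVars n) := ⟨1, by have := h.out; unfold numVars; omega⟩

/-- The class of a variable. -/
noncomputable def v (i : Fin (numVars n)) : P n := Ideal.Quotient.mk (truncIdeal n) (X i)

theorem eps_succ (i : Fin (numVars n)) : eps n (i.val + 1) = v n i := by
  unfold eps v
  rw [dif_pos ⟨Nat.succ_pos _, i.isLt⟩]
  rfl

theorem eps_one : eps n 1 = v n (i0 n) := eps_succ n (i0 n)

theorem eps_two [h : Fact (2 ≤ n)] : eps n 2 = v n (i1 n) := eps_succ n (i1 n)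

/-- Standard exponents. -/
def good (f : Fin (numVars n) →₀ ℕ) : Prop := ∀ i, f i < bound n i

theorem truncIdeal_eq : truncIdeal n =
    Ideal.span ((fun s => monomial s (1 : ZMod 2)) '' (Set.range fun i => Finsupp.single i (bound n i))) := by
  unfold truncIdeal
  congr 1
  ext p
  constructor
  · rintro ⟨i, rfl⟩
    exact ⟨_, ⟨i, rfl⟩, by simp only [X_pow_eq_monomial]⟩
  · rintro ⟨_, ⟨i, rfl⟩, rfl⟩
    exact ⟨i, by simp only [X_pow_eq_monomial]⟩

theorem mem_truncIdeal {p : FreeP n} : p ∈ truncIdeal n ↔ ∀ f ∈ p.support, ¬ good n f := by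
  rw [truncIdeal_eq, mem_ideal_span_monomial_image]
  refine forall₂_congr fun f _ => ?_
  constructor
  · rintro ⟨_, ⟨i, rfl⟩, h⟩ hg
    have := h i
    rw [Finsupp.single_eq_same] at this
    exact absurd (hg i) (not_lt.mpr this)
  · intro h
    unfold good at h
    push Not at h
    obtain ⟨i, hi⟩ := h
    exact ⟨_, ⟨i, rfl⟩, Finsupp.single_le_iff.mpr hi⟩

theorem v_pow_bound (i : Fin (numVars n)) : v n i ^ bound n i = 0 := by
  unfold v
  rw [← map_pow, Ideal.Quotient.eq_zero_iff_mem]
  exact Ideal.subset_span ⟨i, rfl⟩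

theorem bound_i0 : bound n (i0 n) = n := by simp [bound, i0]

theorem bound_of_ne {i : Fin (numVars n)} (h : i ≠ i0 n) : bound n i = 2 ^ klog n (i.val + 1) := by
  unfold bound
  rw [if_neg]
  intro h'
  exact h (Fin.ext h')

theorem v_i0_pow : v n (i0 n) ^ n = 0 := by
  have := v_pow_bound n (i0 n)
  rwa [bound_i0] at this

theorem v_i0_pow' {m : ℕ} (hm : n ≤ m) : v n (i0 n) ^ m = 0 := by
  rw [← Nat.sub_add_cancel hm, pow_add, v_i0_pow, mul_zero]

theorem two_eq_zero : (2 : P n) = 0 := by
  have : ((2 : ZMod 2)) = 0 := rfl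
  have h := congrArg (algebraMap (ZMod 2) (P n)) this
  rwa [map_zero, map_ofNat] at h

theorem add_self (y : P n) : y + y = 0 := by
  rw [← two_mul, two_eq_zero, zero_mul]

variable [hF : Fact (2 ≤ n)]

instance : Nontrivial (P n) := by
  refine Ideal.Quotient.nontrivial_iff.mpr ?_
  intro h
  have h1 : (1 : FreeP n) ∈ truncIdeal n := by rw [h]; trivial
  rw [mem_truncIdeal] at h1
  refine h1 0 ?_ ?_
  · rw [mem_support_iff, ← C_1, coeff_zero_C]; exact one_ne_zero
  · intro i
    rw [Finsupp.coe_zero, Pi.zero_apply]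
    unfold bound
    split_ifs
    · have := hF.out; omega
    · positivity

instance : CharP (P n) 2 := 
  charP_of_injective_algebraMap (RingHom.injective (algebraMap (ZMod 2) (P n))) 2

/-- The images of the `e_j`. -/
noncomputable def ebar (i : Fin (numVars n)) : P n := genImage n (some i)

theorem i1_ne_i0 : i1 n ≠ i0 n := by
  intro h; have := congrArg Fin.val h; simp [i1, i0] at this

omit hF in
theorem ebar_i0 : ebar n (i0 n) = v n (i0 n) := by
  simp only [ebar, genImage, i0, if_true]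
  exact eps_one n

theorem ebar_i1 : ebar n (i1 n) = v n (i1 n) ^ 2 + v n (i0 n) * v n (i1 n) := by
  simp only [ebar, genImage, i1, one_ne_zero, if_true, if_false]
  rw [eps_one, eps_two]; rfl

theorem ebar_ge {i : Fin (numVars n)} (h0 : i ≠ i0 n) (h1 : i ≠ i1 n) :
    ebar n i = v n i + v n (i0 n) ^ (2 * (i.val + 1) - 4) * v n (i1 n) := by
  have a0 : i.val ≠ 0 := fun h => h0 (Fin.ext h)
  have a1 : i.val ≠ 1 := fun h => h1 (Fin.ext h)
  simp only [ebar, genImage, a0, a1, if_false]
  rw [eps_one, eps_two, eps_succ]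

theorem xbar : genImage n none = v n (i0 n) ^ (n - 1) * v n (i1 n) := by
  simp only [genImage]; rw [eps_one, eps_two]

/-- The building blocks of the adapted basis. -/
noncomputable def blk (i : Fin (numVars n)) (c : ℕ) : P n :=
  if i = i1 n then v n i ^ (c % 2) * ebar n i ^ (c / 2) else ebar n i ^ c

theorem blk_i1 (c : ℕ) : blk n (i1 n) c = v n (i1 n) ^ (c % 2) * ebar n (i1 n) ^ (c / 2) := by
  unfold blk; rw [if_pos rfl]

theorem blk_ne {i : Fin (numVars n)} (h : i ≠ i1 n) (c : ℕ) : blk n i c = ebar n i ^ c := by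
  unfold blk; rw [if_neg h]

theorem blk_i0 (c : ℕ) : blk n (i0 n) c = v n (i0 n) ^ c := by
  rw [blk_ne n (i1_ne_i0 n).symm, ebar_i0]

/-- `ε_1`-congruence. -/
theorem dvd_blk_sub (i : Fin (numVars n)) (c : ℕ) : v n (i0 n) ∣ blk n i c - v n i ^ c := by
  by_cases hi1 : i = i1 n
  · subst hi1
    rw [blk_i1, ebar_i1]
    exact dvd_gen1 _ _ _
  · rw [blk_ne n hi1]
    by_cases hi0 : i = i0 n
    · subst hi0; rw [ebar_i0, sub_self]; exact dvd_zero _
    · rw [ebar_ge n hi0 hi1]
      have a0 : i.val ≠ 0 := fun h => hi0 (Fin.ext h)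
      have a1 : i.val ≠ 1 := fun h => hi1 (Fin.ext h)
      have e : 2 * (i.val + 1) - 4 = (2 * (i.val + 1) - 5) + 1 := by omega
      rw [e, pow_succ', mul_assoc]
      exact dvd_gen2 _ _ _ _

open Classical in
/-- The adapted map on the polynomial ring. -/
noncomputable def theta0 : FreeP n →ₗ[ZMod 2] P n :=
  (basisMonomials (Fin (numVars n)) (ZMod 2)).constr (ZMod 2)
    (fun f => if good n f then ∏ i, blk n i (f i) else 0)

open Classical in
theorem theta0_monomial (f : Fin (numVars n) →₀ ℕ) :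
    theta0 n (monomial f 1) = if good n f then ∏ i, blk n i (f i) else 0 := by
  have := (basisMonomials (Fin (numVars n)) (ZMod 2)).constr_basis (ZMod 2)
    (fun f => if good n f then ∏ i, blk n i (f i) else 0) f
  rwa [coe_basisMonomials] at this

theorem theta0_of_good {f : Fin (numVars n) →₀ ℕ} (h : good n f) :
    theta0 n (monomial f 1) = ∏ i, blk n i (f i) := by
  rw [theta0_monomial, if_pos h]

theorem theta0_of_not_good {f : Fin (numVars n) →₀ ℕ} (h : ¬ good n f) :
    theta0 n (monomial f 1) = 0 := by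
  rw [theta0_monomial, if_neg h]

/-- linear induction on monomials -/
theorem induct {M : Type*} [AddCommGroup M] [Module (ZMod 2) M] (S : Submodule (ZMod 2) M)
    {σ : Type*} (L : MvPolynomial σ (ZMod 2) →ₗ[ZMod 2] M) (p : MvPolynomial σ (ZMod 2))
    (h : ∀ f ∈ p.support, L (monomial f 1) ∈ S) : L p ∈ S := by
  rw [p.as_sum, map_sum]
  refine Submodule.sum_mem _ fun f hf => ?_
  have : monomial f (coeff f p) = (coeff f p) • monomial f (1 : ZMod 2) := by
    rw [smul_monomial, smul_eq_mul, mul_one]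
  rw [this, map_smul]
  exact S.smul_mem _ (h f hf)

theorem theta0_trunc {p : FreeP n} (hp : p ∈ truncIdeal n) : theta0 n p = 0 := by
  rw [mem_truncIdeal] at hp
  have := induct (⊥ : Submodule (ZMod 2) (P n)) (theta0 n) p (fun f hf => by
    rw [theta0_of_not_good n (hp f hf)]; exact Submodule.zero_mem _)
  simpa using this

/-- splitting a product over the indices -/
theorem prod_split (i : Fin (numVars n)) (f g : Fin (numVars n) →₀ ℕ) (h : ∀ j, j ≠ i → f j = g j) (a : P n)
    (ha : blk n i (f i) = a * blk n i (g i)) : ∏ j, blk n j (f j) = a * ∏ j, blk n j (g j) := by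
  rw [← Finset.mul_prod_erase Finset.univ _ (Finset.mem_univ i),
    ← Finset.mul_prod_erase Finset.univ (fun j => blk n j (g j)) (Finset.mem_univ i), ha, mul_assoc]
  congr 2
  refine Finset.prod_congr rfl fun j hj => ?_
  rw [h j (Finset.ne_of_mem_erase hj)]

theorem theta0_X0_monomial (f : Fin (numVars n) →₀ ℕ) :
    theta0 n (X (i0 n) * monomial f 1) = v n (i0 n) * theta0 n (monomial f 1) := by
  rw [X, monomial_mul, one_mul]
  set g := Finsupp.single (i0 n) 1 + f with hg
  have g0 : g (i0 n) = f (i0 n) + 1 := by rw [hg, Finsupp.add_apply, Finsupp.single_eq_same, add_comm]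
  have gj : ∀ j, j ≠ i0 n → g j = f j := fun j hj => by
    rw [hg, Finsupp.add_apply, Finsupp.single_apply, if_neg (Ne.symm hj), zero_add]
  have key : ∏ i, blk n i (g i) = v n (i0 n) * ∏ i, blk n i (f i) :=
    prod_split n (i0 n) g f gj _ (by rw [g0, blk_i0, blk_i0, pow_succ, mul_comm])
  by_cases hf : good n f
  · rw [theta0_of_good n hf]
    by_cases hgg : good n g
    · rw [theta0_of_good n hgg, key]
    · rw [theta0_of_not_good n hgg, ← key]
      symm
      have : n ≤ g (i0 n) := by
        unfold good at hgg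
        push Not at hgg
        obtain ⟨i, hi⟩ := hgg
        by_cases h : i = i0 n
        · subst h; rwa [bound_i0] at hi
        · rw [gj i h] at hi; exact absurd (hf i) (not_lt.mpr hi)
      refine Finset.prod_eq_zero (Finset.mem_univ (i0 n)) ?_
      rw [blk_i0, v_i0_pow' n this]
  · have hgg : ¬ good n g := by
      intro h
      apply hf
      intro i
      refine lt_of_le_of_lt ?_ (h i)
      rw [hg, Finsupp.add_apply]; exact Nat.le_add_left _ _
    rw [theta0_of_not_good n hf, theta0_of_not_good n hgg, mul_zero]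

theorem theta0_X0 (p : FreeP n) : theta0 n (X (i0 n) * p) = v n (i0 n) * theta0 n p := by
  have := induct (⊥ : Submodule (ZMod 2) (P n))
    ((theta0 n).comp (LinearMap.mulLeft (ZMod 2) (X (i0 n) : FreeP n)) -
      (LinearMap.mulLeft (ZMod 2) (v n (i0 n))).comp (theta0 n)) p (fun f _ => by
    simp only [LinearMap.sub_apply, LinearMap.comp_apply, LinearMap.mulLeft_apply]
    rw [theta0_X0_monomial, sub_self]; exact Submodule.zero_mem _)
  simpa only [LinearMap.sub_apply, LinearMap.comp_apply, LinearMap.mulLeft_apply, Submodule.mem_bot, sub_eq_zero] using this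

theorem theta0_X0_pow (k : ℕ) (p : FreeP n) :
    theta0 n (X (i0 n) ^ k * p) = v n (i0 n) ^ k * theta0 n p := by
  induction k with
  | zero => simp
  | succ k ih => rw [pow_succ', mul_assoc, theta0_X0, ih, pow_succ', mul_assoc]

theorem theta0_sub_mk_mem (p : FreeP n) :
    v n (i0 n) ∣ theta0 n p - Ideal.Quotient.mk (truncIdeal n) p := by
  have := induct (LinearMap.range (LinearMap.mulLeft (ZMod 2) (v n (i0 n))))
    (theta0 n - (Ideal.Quotient.mkₐ (ZMod 2) (truncIdeal n)).toLinearMap) p (fun f _ => by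
    simp only [LinearMap.sub_apply, AlgHom.toLinearMap_apply, Ideal.Quotient.mkₐ_eq_mk, LinearMap.mem_range,
      LinearMap.mulLeft_apply]
    by_cases hf : good n f
    · have e : Ideal.Quotient.mk (truncIdeal n) (monomial f 1) = ∏ i, v n i ^ f i := by
        unfold v
        simp only [← map_pow, ← map_prod]
        congr 1
        rw [monomial_eq, Finsupp.prod_fintype _ _ (fun i => pow_zero _), C_1, one_mul]
      rw [theta0_of_good n hf, e]
      obtain ⟨r, hr⟩ := dvd_prod_gen (v n (i0 n)) Finset.univ (fun i => blk n i (f i)) (fun i => v n i ^ f i)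
        (fun i _ => dvd_blk_sub n i (f i))
      exact ⟨r, hr.symm⟩
    · rw [theta0_of_not_good n hf, zero_sub]
      have : Ideal.Quotient.mk (truncIdeal n) (monomial f 1) = 0 := by
        rw [Ideal.Quotient.eq_zero_iff_mem, mem_truncIdeal]
        intro g hg
        have : g = f := by
          have := support_monomial_subset hg
          simpa using this
        rwa [this]
      rw [this]; exact ⟨0, by simp⟩)
  obtain ⟨r, hr⟩ := this
  exact ⟨r, by simpa using hr.symm⟩

/-- `theta0` has kernel the truncation ideal. -/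
theorem theta0_injective {p : FreeP n} (hp : theta0 n p = 0) : p ∈ truncIdeal n := by
  have key : ∀ k : ℕ, ∃ q : FreeP n, Ideal.Quotient.mk (truncIdeal n) p =
      Ideal.Quotient.mk (truncIdeal n) (X (i0 n) ^ k * q) := by
    intro k
    induction k with
    | zero => exact ⟨p, by simp⟩
    | succ k ih =>
      obtain ⟨q, hq⟩ := ih
      have h1 : theta0 n (X (i0 n) ^ k * q) = 0 := by
        have h2 : p - X (i0 n) ^ k * q ∈ truncIdeal n := (Ideal.Quotient.eq).mp hq
        have h3 := theta0_trunc n h2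
        rwa [map_sub, hp, zero_sub, neg_eq_zero] at h3
      obtain ⟨r, hr⟩ := theta0_sub_mk_mem n q
      obtain ⟨r', rfl⟩ := Ideal.Quotient.mk_surjective r
      refine ⟨-r', ?_⟩
      rw [theta0_X0_pow] at h1
      rw [hq, map_mul, map_mul, map_pow, map_pow, map_neg]
      change v n (i0 n) ^ k * _ = v n (i0 n) ^ (k + 1) * _
      linear_combination (-v n (i0 n) ^ k) * hr + h1
  obtain ⟨q, hq⟩ := key n
  rw [map_mul, map_pow] at hq
  change _ = v n (i0 n) ^ n * _ at hq
  rw [v_i0_pow, zero_mul, Ideal.Quotient.eq_zero_iff_mem] at hq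
  exact hq

/-- `theta0` is onto. -/
theorem theta0_surjective (y : P n) : ∃ p : FreeP n, theta0 n p = y := by
  have key : ∀ k : ℕ, ∃ p q : FreeP n, y = theta0 n p + v n (i0 n) ^ k * Ideal.Quotient.mk (truncIdeal n) q := by
    intro k
    induction k with
    | zero =>
      obtain ⟨q, rfl⟩ := Ideal.Quotient.mk_surjective y
      exact ⟨0, q, by simp⟩
    | succ k ih =>
      obtain ⟨p, q, hpq⟩ := ih
      obtain ⟨r, hr⟩ := theta0_sub_mk_mem n q
      obtain ⟨r', rfl⟩ := Ideal.Quotient.mk_surjective r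
      refine ⟨p + X (i0 n) ^ k * q, -r', ?_⟩
      rw [map_add, theta0_X0_pow, hpq, map_neg]
      linear_combination (-v n (i0 n) ^ k) * hr
  obtain ⟨p, q, hpq⟩ := key n
  exact ⟨p, by rw [hpq, v_i0_pow]; ring⟩

end K934.PnBasic
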