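import Groth.Prelude.Def_W4c4chowquasisplitPn2
import Groth.Agent.QsChow.K934.PnBasic

/-!
# Arithmetic of the exponents
-/

set_option autoImplicit false

open QsChow K934.PnBasic

namespace K934.PnArith

/-- If `2n` is not `2^m (2j-3)`, then `k_j` is the integer part of `log_2 (2n/(2j-3))`. -/
theorem klog_eq {n j : ℕ} (hj : 2 ≤ j) (h : ∀ m, 2 * n ≠ 2 ^ m * (2 * j - 3)) (hn : 2 * j - 3 ≤ 2 * n) :
    klog n j = Nat.log 2 (2 * n / (2 * j - 3)) := by
  unfold klog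
  apply le_antisymm
  · exact Nat.log_mono_right (Nat.div_le_div_right (by omega))
  · have h0 : 1 ≤ 2 * n / (2 * j - 3) := by
      rw [Nat.le_div_iff_mul_le (by omega)]; omega
    have h1 : 2 ^ Nat.log 2 (2 * n / (2 * j - 3)) ≤ 2 * n / (2 * j - 3) := Nat.pow_log_le_self 2 (by omega)
    rw [Nat.le_div_iff_mul_le (by omega)] at h1
    have h2 := h (Nat.log 2 (2 * n / (2 * j - 3)))
    have h3 : 2 ^ Nat.log 2 (2 * n / (2 * j - 3)) * (2 * j - 3) ≤ 2 * n - 1 := by omega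
    rw [← Nat.le_div_iff_mul_le (by omega)] at h3
    refine Nat.le_log_of_pow_le (by norm_num) h3

theorem lt_klog {n j : ℕ} (hn : 2 ≤ n) (hj : 2 ≤ j) (h : ∀ m, 2 * n ≠ 2 ^ m * (2 * j - 3)) :
    n < (2 * j - 3) * 2 ^ klog n j := by
  have h1 := klog_spec hn hj
  have h2 := h (klog n j + 1)
  rw [pow_succ] at h2
  rcases h1.lt_or_eq with h3 | h3
  · exact h3
  · exfalso; apply h2
    calc 2 * n = 2 * ((2 * j - 3) * 2 ^ klog n j) := by rw [← h3]
      _ = _ := by ring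

theorem two_pow_mul_odd {m m' c c' : ℕ} (hc : Odd c) (hc' : Odd c') (h : 2 ^ m * c = 2 ^ m' * c') :
    m = m' ∧ c = c' := by
  have key : ∀ {m m' c c' : ℕ}, Odd c → Odd c' → 2 ^ m * c = 2 ^ m' * c' → m ≤ m' := by
    intro m m' c c' hc hc' h
    by_contra hcon
    push Not at hcon
    have h1 : m = m' + ((m - m' - 1) + 1) := by omega
    rw [h1, pow_add, mul_assoc] at h
    have h2 := Nat.eq_of_mul_eq_mul_left (by positivity) h
    rw [pow_succ] at h2
    have : Even c' := by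
      rw [← h2]; exact ⟨2 ^ (m - m' - 1) * c, by ring⟩
    exact (Nat.not_even_iff_odd.mpr hc') this
  have h1 := key hc hc' h
  have h2 := key hc' hc h.symm
  have h3 : m = m' := le_antisymm h1 h2
  subst h3
  exact ⟨rfl, Nat.eq_of_mul_eq_mul_left (by positivity) h⟩

theorem twoExp_spec {n : ℕ} (hn : n ≠ 0) : n = 2 ^ twoExp n * (n / 2 ^ twoExp n) ∧ Odd (n / 2 ^ twoExp n) := by
  unfold twoExp
  have h1 : 2 ^ padicValNat 2 n ∣ n := pow_padicValNat_dvd
  have h2 : ¬ 2 ^ (padicValNat 2 n + 1) ∣ n := pow_succ_padicValNat_not_dvd hn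
  have h3 := Nat.mul_div_cancel' h1
  refine ⟨h3.symm, ?_⟩
  rw [← Nat.not_even_iff_odd]
  rintro ⟨r, hr⟩
  apply h2
  generalize padicValNat 2 n = a at *
  rw [hr] at h3
  rw [← h3, pow_succ]
  exact ⟨r, by ring⟩

theorem twoExp_of_eq {n m c : ℕ} (hc : Odd c) (h : n = 2 ^ m * c) : twoExp n = m := by
  have hn : n ≠ 0 := by rw [h]; have := hc.pos; positivity
  obtain ⟨h1, h2⟩ := twoExp_spec hn
  rw [h1] at h
  exact (two_pow_mul_odd h2 hc h).1

theorem odd_two_j {j : ℕ} (hj : 2 ≤ j) : Odd (2 * j - 3) := ⟨j - 2, by omega⟩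

theorem kprime_two {n : ℕ} : kprime n 2 = Nat.log 2 n := by simp [kprime]

theorem kprime_one {n : ℕ} : kprime n 1 = twoExp n := by simp [kprime]

theorem kprime_ge {n j : ℕ} (hj : 3 ≤ j) : kprime n j = Nat.log 2 (2 * n / (2 * j - 3)) := by
  unfold kprime; rw [if_neg (by omega), if_neg (by omega)]

theorem log_two_mul {n : ℕ} (hn : n ≠ 0) : Nat.log 2 (2 * n) = Nat.log 2 n + 1 := by
  rw [mul_comm]; exact Nat.log_mul_base (by norm_num) hn

theorem klog_two {n : ℕ} (hn : 2 ≤ n) (h : ∀ m, n ≠ 2 ^ m) : klog n 2 = kprime n 2 + 1 := by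
  rw [kprime_two, klog_eq (le_refl 2) (fun m hm => ?_) (by omega)]
  · have e : 2 * 2 - 3 = 1 := rfl
    rw [e, Nat.div_one, log_two_mul (by omega)]
  · have e : 2 * 2 - 3 = 1 := rfl
    rw [e, mul_one] at hm
    cases m with
    | zero => rw [pow_zero] at hm; omega
    | succ m => exact h m (by rw [pow_succ] at hm; omega)

theorem klog_two_lt {n : ℕ} (hn : 2 ≤ n) (h : ∀ m, n ≠ 2 ^ m) : n < 2 ^ klog n 2 := by
  have h1 := klog_spec hn (le_refl 2)
  have e : 2 * 2 - 3 = 1 := rfl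
  rw [e, one_mul] at h1
  exact lt_of_le_of_ne h1 (h _)

theorem odd_not_pow {n : ℕ} (hn : 2 ≤ n) (ho : Odd n) (m : ℕ) : n ≠ 2 ^ m := by
  intro h
  cases m with
  | zero => rw [pow_zero] at h; omega
  | succ m =>
    rw [pow_succ] at h
    have : Even n := by rw [h]; exact ⟨2 ^ m, by ring⟩
    exact (Nat.not_even_iff_odd.mpr ho) this

/-- `n` odd: no exceptional index. -/
theorem odd_ne {n j : ℕ} (ho : Odd n) (hj : 2 ≤ j) (hjs : j ≤ numVars n) (m : ℕ) :
    2 * n ≠ 2 ^ m * (2 * j - 3) := by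
  intro h
  have h' : 2 ^ 1 * n = 2 ^ m * (2 * j - 3) := by rw [pow_one]; exact h
  have := (two_pow_mul_odd ho (odd_two_j hj) h').2
  unfold numVars at hjs
  obtain ⟨k, hk⟩ := ho
  omega

/-- `n = 2^a c`, `c` odd: the only exceptional index has `2 j - 3 = c`. -/
theorem ne_of_ne {n j a c : ℕ} (hc : Odd c) (hn : n = 2 ^ a * c) (hj : 2 ≤ j) (hne : 2 * j - 3 ≠ c) (m : ℕ) :
    2 * n ≠ 2 ^ m * (2 * j - 3) := by
  intro h
  have h' : 2 ^ (a + 1) * c = 2 ^ m * (2 * j - 3) := by rw [← h, hn, pow_succ]; ring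
  exact hne ((two_pow_mul_odd hc (odd_two_j hj) h').2).symm

theorem klog_ge {n j : ℕ} (hn : 2 ≤ n) (hj : 3 ≤ j) (hjs : j ≤ numVars n) (h : ∀ m, 2 * n ≠ 2 ^ m * (2 * j - 3)) :
    klog n j = kprime n j := by
  rw [kprime_ge hj, klog_eq (by omega) h]
  unfold numVars at hjs; omega

/-- the exceptional index -/
theorem klog_exc {n j a : ℕ} (hj : 3 ≤ j) (hn : n = 2 ^ a * (2 * j - 3)) :
    klog n j = a ∧ kprime n j = a + 1 := by
  have hpos : 0 < 2 * j - 3 := by omega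
  have h2 : 2 * n / (2 * j - 3) = 2 ^ (a + 1) := by
    rw [hn, pow_succ]
    have : 2 * (2 ^ a * (2 * j - 3)) = (2 ^ a * 2) * (2 * j - 3) := by ring
    rw [this, Nat.mul_div_cancel _ hpos]
  have h1 : (2 * n - 1) / (2 * j - 3) = 2 ^ (a + 1) - 1 := by
    have hp : 1 ≤ 2 ^ a := Nat.one_le_two_pow
    have e : 2 * n - 1 = (2 * j - 3 - 1) + (2 ^ (a + 1) - 1) * (2 * j - 3) := by
      have e1 : (2 ^ (a + 1) - 1) * (2 * j - 3) = 2 ^ (a + 1) * (2 * j - 3) - (2 * j - 3) := by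
        rw [Nat.sub_mul, one_mul]
      have e2 : 2 * n = 2 ^ (a + 1) * (2 * j - 3) := by rw [hn, pow_succ]; ring
      have e3 : 2 * j - 3 ≤ 2 ^ (a + 1) * (2 * j - 3) := Nat.le_mul_of_pos_left _ (by positivity)
      omega
    rw [e, Nat.add_mul_div_right _ _ hpos, Nat.div_eq_of_lt (by omega), zero_add]
  constructor
  · unfold klog
    rw [h1]
    apply le_antisymm
    · have : 2 ^ (a + 1) - 1 < 2 ^ (a + 1) := by have := Nat.one_le_two_pow (n := a + 1); omega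
      have := Nat.log_lt_of_lt_pow (b := 2) (x := a + 1) (y := 2 ^ (a + 1) - 1) (by
        have := Nat.one_le_two_pow (n := a); rw [pow_succ]; omega) this
      omega
    · apply Nat.le_log_of_pow_le (by norm_num)
      have := Nat.one_le_two_pow (n := a); rw [pow_succ]; omega
  · rw [kprime_ge hj, h2, Nat.log_pow (by norm_num)]

end K934.PnArith
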