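import Groth.Agent.QsChow.K934.PnSpecial

/-!
# `n` even, not a power of two, and `n` a power of two
-/

set_option autoImplicit false
set_option linter.unusedSectionVars false

open MvPolynomial QsChow K934.PnBasic K934.PnInv K934.PnProj K934.PnPres K934.PnKer K934.PnArith K934.PnSpecial

namespace K934.PnEven

variable (n : ℕ) [hF : Fact (2 ≤ n)]

theorem map_hrel_ge {i : Fin (numVars n)} (h0 : i ≠ i0 n) (h1 : i ≠ i1 n) (a : FreeP n) :
    rho n a (hrel n (i.val + 1)) = X i ^ 2 ^ klog n (i.val + 1) +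
      X (i0 n) ^ ((2 * (i.val + 1) - 3) * 2 ^ klog n (i.val + 1) - n) * a +
      X (i0 n) ^ ((2 * (i.val + 1) - 4) * 2 ^ klog n (i.val + 1)) * rho n a (sPoly n (i.val + 1)) := by
  rw [hrel_ge_eq n h0 h1]
  simp only [map_add, map_mul, map_pow, rho_some, rho_none]

theorem map_hrel_two (a : FreeP n) : rho n a (hrel n 2) = X (i0 n) ^ (2 ^ klog n 2 - n) * a +
    ((∑ t ∈ Finset.range (klog n 2 - 1), X (i0 n) ^ (2 ^ klog n 2 - 2 ^ (t + 1)) * X (i1 n) ^ 2 ^ t) +
      X (i1 n) ^ 2 ^ (klog n 2 - 1)) := by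
  have hk2 : 1 ≤ klog n 2 := klog_pos hF.out (le_refl 2) (numVars_ge hF.out)
  rw [hrel_two_eq, sPoly_split n hk2]
  simp only [map_add, map_mul, map_pow, map_sum, rho_some, rho_none]

theorem evenIdeal_gen (i : Fin (numVars n)) : X i ^ 2 ^ kprime n (i.val + 1) ∈ evenIdeal n := by
  rw [← evarE_succ]
  exact Ideal.subset_span (Or.inr ⟨i, rfl⟩)

theorem three_le_of {a c : ℕ} (hc : 3 ≤ c) (hn : n = 2 ^ a * c) : 3 * 2 ^ a ≤ n := by
  rw [hn, mul_comm]; exact Nat.mul_le_mul_left _ hc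

/-- exponents in `h_j` are at least `2^a`. -/
theorem exp_ge {a c : ℕ} (hc : 3 ≤ c) (hn : n = 2 ^ a * c) {j : ℕ} (hj : 3 ≤ j) :
    2 ^ a ≤ (2 * j - 4) * 2 ^ klog n j := by
  have h1 := klog_spec hF.out (j := j) (by omega)
  have h2 := three_le_of n hc hn
  have h3 : (2 * j - 3) * 2 ^ klog n j ≤ 2 * ((2 * j - 4) * 2 ^ klog n j) := by
    rw [← mul_assoc]; exact Nat.mul_le_mul_right _ (by omega)
  omega

theorem half_ge {a c : ℕ} (hc : 3 ≤ c) (hn : n = 2 ^ a * c) (hk : 1 ≤ klog n 2) : 2 ^ a ≤ 2 ^ (klog n 2 - 1) := by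
  have h1 := klog_spec hF.out (le_refl 2)
  have e : 2 * 2 - 3 = 1 := rfl
  rw [e, one_mul] at h1
  have h2 := three_le_of n hc hn
  have h3 : 2 ^ klog n 2 = 2 ^ (klog n 2 - 1) * 2 := by rw [← pow_succ]; congr 1; omega
  omega

section even

variable (hne : n ≠ 2 ^ twoExp n) (ha : 1 ≤ twoExp n) (l : Fin (numVars n)) (hl : l.val + 1 = lIdx n) (hl2 : 2 ≤ l.val)
  (hnl : n = 2 ^ twoExp n * (2 * (l.val + 1) - 3))

include hne in
theorem not_pow (m : ℕ) : n ≠ 2 ^ m := by
  intro h
  have : twoExp n = m := twoExp_of_eq (c := 1) odd_one (by rw [mul_one]; exact h)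
  rw [this] at hne
  exact hne h

include hl2 hnl hl in
theorem even_gen0 : X (i0 n) * X l ^ 2 ^ twoExp n ∈ evenIdeal n := by
  have : evarE n 1 * evarE n (lIdx n) ^ 2 ^ (kprime n (lIdx n) - 1) ∈ evenIdeal n := Ideal.subset_span (Or.inl rfl)
  rw [← hl, evarE_succ, evarE_one, (klog_exc (j := l.val + 1) (by omega) hnl).2, Nat.add_sub_cancel] at this
  exact this

theorem e0_even : X (i0 n) ^ 2 ^ twoExp n ∈ evenIdeal n := by
  have := evenIdeal_gen n (i0 n)
  have e : kprime n ((i0 n).val + 1) = twoExp n := kprime_one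
  rwa [e] at this

include hl2 hnl hl hne in
theorem J_le_comap : presIdeal n ⊔ Ideal.span {(X (some (i0 n)) : FreeE n) ^ 2 ^ twoExp n} ≤
    (evenIdeal n).comap (rho n (X l ^ 2 ^ twoExp n)) := by
  have hn := hF.out
  have hc : 3 ≤ 2 * (l.val + 1) - 3 := by omega
  have hk2 : 1 ≤ klog n 2 := klog_pos hn (le_refl 2) (numVars_ge hn)
  have he0 := e0_even n
  have hpow : ∀ m, 2 ^ twoExp n ≤ m → (X (i0 n) : FreeP n) ^ m ∈ evenIdeal n := fun m hm => by
    rw [← Nat.sub_add_cancel hm, pow_add]; exact Ideal.mul_mem_left _ _ he0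
  have hle : 2 ^ twoExp n ≤ n := by have := three_le_of n hc hnl; omega
  have hg0 := even_gen0 n l hl hl2 hnl
  have hg0' : ∀ m, 1 ≤ m → (X (i0 n) : FreeP n) ^ m * X l ^ 2 ^ twoExp n ∈ evenIdeal n := fun m hm => by
    have : m = (m - 1) + 1 := by omega
    rw [this, pow_succ, mul_assoc]; exact Ideal.mul_mem_left _ _ hg0
  apply sup_le
  · unfold presIdeal
    rw [Ideal.span_le]
    rintro q (hq | ⟨i, rfl⟩)
    · simp only [Set.mem_insert_iff, Set.mem_singleton_iff] at hq
      rcases hq with rfl | rfl | rfl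
      · rw [SetLike.mem_coe, Ideal.mem_comap, evar_one, map_pow, rho_some]; exact hpow _ hle
      · rw [SetLike.mem_coe, Ideal.mem_comap, evar_one]
        unfold xvar
        rw [map_mul, rho_some, rho_none]; exact hg0
      · rw [SetLike.mem_coe, Ideal.mem_comap]
        unfold xvar
        rw [map_pow, rho_none, ← pow_mul, ← pow_succ]
        have := evenIdeal_gen n l
        rwa [(klog_exc (j := l.val + 1) (by omega) hnl).2] at this
    · by_cases h0 : i = i0 n
      · subst h0; change hrel n ((i0 n).val + 1) ∈ _; rw [hrel_i0]; exact Ideal.zero_mem _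
      by_cases h1 : i = i1 n
      · subst h1
        change rho n _ (hrel n 2) ∈ evenIdeal n
        have hlt := klog_two_lt hn (not_pow n hne)
        rw [map_hrel_two]
        refine Ideal.add_mem _ (hg0' _ (by omega)) (Ideal.add_mem _ ?_ ?_)
        · exact (Ideal.span_singleton_le_iff_mem _).mpr he0
            (sPoly_low_mem (X (i0 n) : FreeP n) (X (i1 n)) (klog n 2) (2 ^ twoExp n) (half_ge n hc hnl hk2))
        · have := evenIdeal_gen n (i1 n)
          have e : kprime n ((i1 n).val + 1) = klog n 2 - 1 := by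
            rw [klog_two hn (not_pow n hne)]; rfl
          rwa [e] at this
      · have a0 : i.val ≠ 0 := fun h => h0 (Fin.ext h)
        have a1 : i.val ≠ 1 := fun h => h1 (Fin.ext h)
        change rho n _ (hrel n (i.val + 1)) ∈ evenIdeal n
        rw [map_hrel_ge n h0 h1]
        have hlast : X (i0 n) ^ ((2 * (i.val + 1) - 4) * 2 ^ klog n (i.val + 1)) *
            rho n (X l ^ 2 ^ twoExp n) (sPoly n (i.val + 1)) ∈ evenIdeal n :=
          Ideal.mul_mem_right _ _ (hpow _ (exp_ge n hc hnl (by omega)))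
        refine Ideal.add_mem _ ?_ hlast
        by_cases hil : i = l
        · subst hil
          have hexc := klog_exc (j := i.val + 1) (by omega) hnl
          have e0 : (2 * (i.val + 1) - 3) * 2 ^ klog n (i.val + 1) - n = 0 := by
            rw [hexc.1, mul_comm, ← hnl, Nat.sub_self]
          rw [e0, hexc.1, pow_zero, one_mul, CharTwo.add_self_eq_zero]
          exact Ideal.zero_mem _
        · have hne2 := ne_of_ne (n := n) (j := i.val + 1) (odd_two_j (j := l.val + 1) (by omega)) hnl (by omega)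
            (by intro h; apply hil; apply Fin.ext; omega)
          have hlt := lt_klog hn (j := i.val + 1) (by omega) hne2
          have hkk : klog n (i.val + 1) = kprime n (i.val + 1) := klog_ge hn (by omega) i.isLt hne2
          refine Ideal.add_mem _ ?_ (hg0' _ (by omega))
          have := evenIdeal_gen n i
          rwa [← hkk] at this
  · rw [Ideal.span_singleton_le_iff_mem, Ideal.mem_comap, map_pow, rho_some]
    exact he0

/-- the ideal `J` -/
noncomputable def JJ : Ideal (FreeE n) := presIdeal n ⊔ Ideal.span {(X (some (i0 n)) : FreeE n) ^ 2 ^ twoExp n}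

theorem e0_JJ : (X (some (i0 n)) : FreeE n) ^ 2 ^ twoExp n ∈ JJ n :=
  Ideal.mem_sup_right (Ideal.mem_span_singleton_self _)

theorem e0_JJ' (m : ℕ) (hm : 2 ^ twoExp n ≤ m) : (X (some (i0 n)) : FreeE n) ^ m ∈ JJ n := by
  rw [← Nat.sub_add_cancel hm, pow_add]; exact Ideal.mul_mem_left _ _ (e0_JJ n)

theorem e0x_JJ (m : ℕ) (hm : 1 ≤ m) : (X (some (i0 n)) : FreeE n) ^ m * X none ∈ JJ n := by
  have : m = (m - 1) + 1 := by omega
  rw [this, pow_succ, mul_assoc]
  exact Ideal.mul_mem_left _ _ (Ideal.mem_sup_left (e0_x_mem n))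

theorem hrel_JJ (i : Fin (numVars n)) : hrel n (i.val + 1) ∈ JJ n := Ideal.mem_sup_left (hrel_mem n i)

include hl2 hnl in
theorem x_sub_JJ : (X (some l) : FreeE n) ^ 2 ^ twoExp n + X none ∈ JJ n := by
  have hc : 3 ≤ 2 * (l.val + 1) - 3 := by omega
  have h0 : l ≠ i0 n := by intro h; rw [h] at hl2; simp [i0] at hl2
  have h1 : l ≠ i1 n := by intro h; rw [h] at hl2; simp [i1] at hl2
  have h := hrel_JJ n l
  rw [hrel_ge_eq n h0 h1] at h
  have hlast : (X (some (i0 n)) : FreeE n) ^ ((2 * (l.val + 1) - 4) * 2 ^ klog n (l.val + 1)) *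
      sPoly n (l.val + 1) ∈ JJ n := Ideal.mul_mem_right _ _ (e0_JJ' n _ (exp_ge n hc hnl (by omega)))
  have h2 := (Ideal.add_mem_iff_left _ hlast).mp h
  have hexc := klog_exc (j := l.val + 1) (by omega) hnl
  have e0 : (2 * (l.val + 1) - 3) * 2 ^ klog n (l.val + 1) - n = 0 := by
    rw [hexc.1, mul_comm, ← hnl, Nat.sub_self]
  rwa [e0, hexc.1, pow_zero, one_mul] at h2

include hl2 hnl in
theorem x_sub_JJ' : (X none : FreeE n) - iota n (X l ^ 2 ^ twoExp n) ∈ JJ n := by
  rw [map_pow, iota_X]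
  have h := x_sub_JJ n l hl2 hnl
  have e : (X none : FreeE n) - X (some l) ^ 2 ^ twoExp n = X (some l) ^ 2 ^ twoExp n + X none := by
    rw [CharTwo.sub_eq_add, add_comm]
  rwa [e]

include hl2 hnl hl hne in
theorem evenIdeal_le_comap : evenIdeal n ≤ (JJ n).comap (iota n) := by
  have hn := hF.out
  have hc : 3 ≤ 2 * (l.val + 1) - 3 := by omega
  have hk2 : 1 ≤ klog n 2 := klog_pos hn (le_refl 2) (numVars_ge hn)
  have hexc := klog_exc (j := l.val + 1) (by omega) hnl
  have hxl := x_sub_JJ n l hl2 hnl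
  unfold evenIdeal
  rw [Ideal.span_le]
  rintro q (hq | ⟨i, rfl⟩)
  · rw [Set.mem_singleton_iff] at hq
    subst hq
    rw [SetLike.mem_coe, Ideal.mem_comap, ← hl, hexc.2, Nat.add_sub_cancel, evarE_one, evarE_succ, map_mul, map_pow,
      iota_X, iota_X]
    have h1 := Ideal.mul_mem_left _ (X (some (i0 n)) : FreeE n) hxl
    rw [mul_add] at h1
    refine (Ideal.add_mem_iff_left _ ?_).mp h1
    have := e0x_JJ n 1 (le_refl 1)
    rwa [pow_one] at this
  · change iota n (evarE n (i.val + 1) ^ 2 ^ kprime n (i.val + 1)) ∈ JJ n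
    rw [evarE_succ, map_pow, iota_X]
    by_cases h0 : i = i0 n
    · subst h0
      have e : kprime n ((i0 n).val + 1) = twoExp n := kprime_one
      rw [e]; exact e0_JJ n
    by_cases h1 : i = i1 n
    · subst h1
      have h := hrel_JJ n (i1 n)
      have hlt := klog_two_lt hn (not_pow n hne)
      have e2 : (i1 n).val + 1 = 2 := rfl
      rw [e2] at h ⊢
      rw [hrel_two_eq, sPoly_split n hk2] at h
      have h3 := (Ideal.add_mem_iff_right _ (e0x_JJ n _ (by omega))).mp h
      have h4 := sPoly_low_mem (X (some (i0 n)) : FreeE n) (X (some (i1 n))) (klog n 2) (2 ^ twoExp n)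
        (half_ge n hc hnl hk2)
      have h5 := (Ideal.add_mem_iff_right _ ((Ideal.span_singleton_le_iff_mem _).mpr (e0_JJ n) h4)).mp h3
      rwa [klog_two hn (not_pow n hne), Nat.add_sub_cancel] at h5
    · have a0 : i.val ≠ 0 := fun h => h0 (Fin.ext h)
      have a1 : i.val ≠ 1 := fun h => h1 (Fin.ext h)
      by_cases hil : i = l
      · subst hil
        rw [hexc.2, pow_succ, pow_mul]
        have h2 := Ideal.mul_mem_left _ ((X (some i) : FreeE n) ^ 2 ^ twoExp n + X none) hxl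
        have e : ((X (some i) : FreeE n) ^ 2 ^ twoExp n + X none) * (X (some i) ^ 2 ^ twoExp n + X none) =
            (X (some i) ^ 2 ^ twoExp n) ^ 2 + X none ^ 2 := by rw [← CharTwo.add_sq]; ring
        rw [e] at h2
        exact (Ideal.add_mem_iff_left _ (Ideal.mem_sup_left (x_sq_mem n))).mp h2
      · have hne2 := ne_of_ne (n := n) (j := i.val + 1) (odd_two_j (j := l.val + 1) (by omega)) hnl (by omega)
          (by intro h; apply hil; apply Fin.ext; omega)
        have hlt := lt_klog hn (j := i.val + 1) (by omega) hne2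
        have hkk : klog n (i.val + 1) = kprime n (i.val + 1) := klog_ge hn (by omega) i.isLt hne2
        have h := hrel_JJ n i
        rw [hrel_ge_eq n h0 h1] at h
        rw [← hkk]
        refine (Ideal.add_mem_iff_left _ ?_).mp ((Ideal.add_mem_iff_left _ ?_).mp h)
        · exact e0x_JJ n _ (by omega)
        · exact Ideal.mul_mem_right _ _ (e0_JJ' n _ (exp_ge n hc hnl (by omega)))

end even

section tau

variable (τ : P n →ₐ[ZMod 2] P n) (hτ1 : τ (eps n 1) = eps n 1)
    (hτ : ∀ j : ℕ, 2 ≤ j → j ≤ numVars n → τ (eps n j) = eps n j + eps n 1 ^ (2 * j - 3))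

include hτ1 hτ in
theorem even_main (ha : 1 ≤ twoExp n) (hne : n ≠ 2 ^ twoExp n) :
    (∀ q : FreeP n, (∃ w : P n, τ w = w ∧ psi n q = v n (i0 n) ^ 2 ^ twoExp n * w) ↔ q ∈ evenIdeal n) ∧
    (∀ z : P n, τ z = z → ∃ q : FreeP n, ∃ w : P n, τ w = w ∧ z = psi n q + v n (i0 n) ^ 2 ^ twoExp n * w) := by
  obtain ⟨l, hl, hl2, hnl⟩ := even_data n hne ha
  constructor
  · intro q
    rw [psi_eq, mem_J_iff n τ hτ1 hτ]
    exact iota_mem_iff n _ _ _ (J_le_comap n hne l hl hl2 hnl) (evenIdeal_le_comap n hne l hl hl2 hnl) q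
  · intro z hz
    obtain ⟨r, rfl⟩ := (fixed_iff n τ hτ1 hτ z).mp hz
    have h := sub_iota_rho n (X l ^ 2 ^ twoExp n) (JJ n) (x_sub_JJ' n l hl2 hnl) r
    obtain ⟨w, hw, h2⟩ := (mem_J_iff n τ hτ1 hτ (2 ^ twoExp n) _).mpr h
    refine ⟨rho n (X l ^ 2 ^ twoExp n) r, w, hw, ?_⟩
    rw [← h2, map_sub, psi_eq]; ring

end tau

end K934.PnEven
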