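import Groth.Agent.QsChow.K934.PnBasic

/-!
# The involution on `P_n`
-/

set_option autoImplicit false

open MvPolynomial QsChow K934.PnBasic

namespace K934.PnInv

variable (n : ℕ) [hF : Fact (2 ≤ n)]

omit hF in
theorem phi_some (i : Fin (numVars n)) : phi n (X (some i)) = ebar n i := by
  unfold phi ebar; rw [aeval_X]

theorem phi_none : phi n (X none) = v n (i0 n) ^ (n - 1) * v n (i1 n) := by
  unfold phi; rw [aeval_X]; exact xbar n

/-- the fixed elements -/
theorem v1_sq : v n (i1 n) ^ 2 = ebar n (i1 n) + v n (i0 n) * v n (i1 n) := by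
  rw [ebar_i1]
  linear_combination (-v n (i0 n) * v n (i1 n)) * two_eq_zero n

theorem v_ge {i : Fin (numVars n)} (h0 : i ≠ i0 n) (h1 : i ≠ i1 n) :
    v n i = ebar n i + v n (i0 n) ^ (2 * (i.val + 1) - 4) * v n (i1 n) := by
  rw [ebar_ge n h0 h1]
  linear_combination (-v n (i0 n) ^ (2 * (i.val + 1) - 4) * v n (i1 n)) * two_eq_zero n

theorem decomp (y : P n) : ∃ a b : FreeE n, y = phi n a + phi n b * v n (i1 n) := by
  obtain ⟨p, rfl⟩ := Ideal.Quotient.mk_surjective y
  induction p using MvPolynomial.induction_on with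
  | C a => exact ⟨C a, 0, by
      rw [map_zero, zero_mul, add_zero]
      unfold phi; rw [aeval_C]; rfl⟩
  | add p q hp hq =>
    obtain ⟨a, b, h1⟩ := hp
    obtain ⟨c, d, h2⟩ := hq
    exact ⟨a + c, b + d, by rw [map_add, h1, h2, map_add, map_add]; ring⟩
  | mul_X p i hp =>
    obtain ⟨a, b, h⟩ := hp
    rw [map_mul, h]
    change ∃ a' b' : FreeE n, (_ : P n) * v n i = _
    by_cases hi0 : i = i0 n
    · subst hi0
      exact ⟨a * X (some (i0 n)), b * X (some (i0 n)), by rw [map_mul, map_mul, phi_some, ebar_i0]; ring⟩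
    · by_cases hi1 : i = i1 n
      · subst hi1
        refine ⟨b * X (some (i1 n)), a + b * X (some (i0 n)), ?_⟩
        rw [map_add, map_mul, map_mul, phi_some, phi_some, ebar_i0]
        linear_combination (phi n b) * v1_sq n
      · refine ⟨a * X (some i) + b * X (some (i0 n)) ^ (2 * (i.val + 1) - 4) * X (some (i1 n)),
          a * X (some (i0 n)) ^ (2 * (i.val + 1) - 4) + b * X (some i) +
          b * X (some (i0 n)) ^ (2 * (i.val + 1) - 4) * X (some (i0 n)), ?_⟩
        simp only [map_add, map_mul, map_pow, phi_some, ebar_i0]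
        rw [v_ge n hi0 hi1]
        linear_combination (phi n b * v n (i0 n) ^ (2 * (i.val + 1) - 4)) * v1_sq n

theorem ann_eps (y : P n) (hy : v n (i0 n) * y = 0) : ∃ w : P n, y = v n (i0 n) ^ (n - 1) * w := by
  obtain ⟨p, rfl⟩ := theta0_surjective n y
  rw [← theta0_X0] at hy
  have hp := theta0_injective n hy
  rw [mem_truncIdeal] at hp
  have := induct (LinearMap.range (LinearMap.mulLeft (ZMod 2) (v n (i0 n) ^ (n - 1)))) (theta0 n) p (fun f hf => by
    by_cases hg : good n f
    · have h1 : ¬ good n (f + Finsupp.single (i0 n) 1) := by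
        refine hp _ ?_
        rw [mem_support_iff, mul_comm, coeff_mul_X]
        exact mem_support_iff.mp hf
      have h2 : n - 1 ≤ f (i0 n) := by
        by_contra hcon
        apply h1
        intro i
        by_cases hi : i = i0 n
        · subst hi
          rw [Finsupp.add_apply, Finsupp.single_eq_same, bound_i0]; omega
        · rw [Finsupp.add_apply, Finsupp.single_apply, if_neg (Ne.symm hi), add_zero]
          exact hg i
      have h3 : f = Finsupp.single (i0 n) (n - 1) + (f - Finsupp.single (i0 n) (n - 1)) := by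
        rw [add_tsub_cancel_of_le]
        rwa [Finsupp.single_le_iff]
      rw [h3]
      have h4 : (monomial (Finsupp.single (i0 n) (n - 1) + (f - Finsupp.single (i0 n) (n - 1))) (1 : ZMod 2) : FreeP n)
          = X (i0 n) ^ (n - 1) * monomial (f - Finsupp.single (i0 n) (n - 1)) 1 := by
        rw [X_pow_eq_monomial, monomial_mul, one_mul]
      rw [h4, theta0_X0_pow]
      exact ⟨_, rfl⟩
    · rw [theta0_of_not_good n hg]; exact Submodule.zero_mem _)
  obtain ⟨w, hw⟩ := this
  exact ⟨w, hw.symm⟩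

section tau

variable (τ : P n →ₐ[ZMod 2] P n) (hτ1 : τ (eps n 1) = eps n 1)
    (hτ : ∀ j : ℕ, 2 ≤ j → j ≤ numVars n → τ (eps n j) = eps n j + eps n 1 ^ (2 * j - 3))

include hτ1 in
omit hF in
theorem tau_v0 : τ (v n (i0 n)) = v n (i0 n) := by rw [← eps_one, hτ1]

include hτ in
omit hF in
theorem tau_v {i : Fin (numVars n)} (h0 : i ≠ i0 n) : τ (v n i) = v n i + v n (i0 n) ^ (2 * (i.val + 1) - 3) := by
  have a0 : i.val ≠ 0 := fun h => h0 (Fin.ext h)
  have := hτ (i.val + 1) (by omega) (by have := i.isLt; omega)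
  rw [eps_succ, eps_one] at this
  exact this

include hτ in
theorem tau_v1 : τ (v n (i1 n)) = v n (i1 n) + v n (i0 n) := by
  rw [tau_v n τ hτ (i1_ne_i0 n)]
  simp [i1]

include hτ1 hτ in
theorem tau_ebar (i : Fin (numVars n)) : τ (ebar n i) = ebar n i := by
  by_cases h0 : i = i0 n
  · subst h0; rw [ebar_i0, tau_v0 n τ hτ1]
  by_cases h1 : i = i1 n
  · subst h1
    rw [ebar_i1, map_add, map_pow, map_mul, tau_v0 n τ hτ1, tau_v1 n τ hτ]
    linear_combination (v n (i0 n) ^ 2 + v n (i0 n) * v n (i1 n)) * two_eq_zero n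
  · have a0 : i.val ≠ 0 := fun h => h0 (Fin.ext h)
    have a1 : i.val ≠ 1 := fun h => h1 (Fin.ext h)
    rw [ebar_ge n h0 h1, map_add, map_mul, map_pow, tau_v0 n τ hτ1, tau_v1 n τ hτ, tau_v n τ hτ h0]
    have e : 2 * (i.val + 1) - 3 = (2 * (i.val + 1) - 4) + 1 := by omega
    rw [e, pow_succ]
    linear_combination (v n (i0 n) ^ (2 * (i.val + 1) - 4) * v n (i0 n)) * two_eq_zero n

include hτ1 hτ in
theorem tau_x : τ (v n (i0 n) ^ (n - 1) * v n (i1 n)) = v n (i0 n) ^ (n - 1) * v n (i1 n) := by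
  rw [map_mul, map_pow, tau_v0 n τ hτ1, tau_v1 n τ hτ, mul_add, ← pow_succ,
    Nat.sub_add_cancel (by have := hF.out; omega), v_i0_pow, add_zero]

include hτ1 hτ in
theorem tau_phi (q : FreeE n) : τ (phi n q) = phi n q := by
  have : τ.comp (phi n) = phi n := by
    refine MvPolynomial.algHom_ext fun i => ?_
    rw [AlgHom.comp_apply]
    cases i with
    | none => rw [phi_none, tau_x n τ hτ1 hτ]
    | some i => rw [phi_some, tau_ebar n τ hτ1 hτ]
  exact DFunLike.congr_fun this q

include hτ1 hτ in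
theorem add_tau (a b : FreeE n) : (phi n a + phi n b * v n (i1 n)) + τ (phi n a + phi n b * v n (i1 n)) =
    v n (i0 n) * phi n b := by
  rw [map_add, map_mul, tau_phi n τ hτ1 hτ, tau_phi n τ hτ1 hτ, tau_v1 n τ hτ]
  linear_combination (phi n a + phi n b * v n (i1 n)) * two_eq_zero n

include hτ1 hτ in
theorem fixed_iff (z : P n) : τ z = z ↔ ∃ q, phi n q = z := by
  constructor
  · intro hz
    obtain ⟨a, b, h⟩ := decomp n z
    have h2 := add_tau n τ hτ1 hτ a b
    rw [← h, hz, add_self] at h2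
    obtain ⟨w, hw⟩ := ann_eps n _ h2.symm
    obtain ⟨c, d, h3⟩ := decomp n w
    refine ⟨a + c * X none + X (some (i0 n)) ^ (n - 1) * d * X (some (i1 n)), ?_⟩
    rw [h, map_add, map_add, map_mul, map_mul, map_mul, map_pow, phi_none, phi_some, phi_some, ebar_i0, hw, h3]
    have e : v n (i0 n) ^ (n - 1) * v n (i0 n) = 0 := by
      rw [← pow_succ, Nat.sub_add_cancel (by have := hF.out; omega), v_i0_pow]
    linear_combination (- v n (i0 n) ^ (n - 1) * phi n d) * v1_sq n + (- v n (i1 n) * phi n d) * e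
  · rintro ⟨q, rfl⟩
    exact tau_phi n τ hτ1 hτ q

include hτ1 hτ in
theorem range_add_tau (y : P n) : ∃ z, τ z = z ∧ y + τ y = v n (i0 n) * z := by
  obtain ⟨a, b, h⟩ := decomp n y
  exact ⟨phi n b, tau_phi n τ hτ1 hτ b, by rw [h, add_tau n τ hτ1 hτ]⟩

include hτ1 hτ in
theorem eps_mul_mem (z : P n) (hz : τ z = z) : ∃ y, y + τ y = v n (i0 n) * z := by
  obtain ⟨b, rfl⟩ := (fixed_iff n τ hτ1 hτ z).mp hz
  refine ⟨phi n 0 + phi n b * v n (i1 n), ?_⟩
  rw [add_tau n τ hτ1 hτ]

end tau

end K934.PnInv
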