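import Groth.Agent.QsChow.K934.PnPres

/-!
# The kernel of `φ : F_2[e_1, …, e_s, x] → P_n`
-/

set_option autoImplicit false
set_option linter.unusedSectionVars false

open MvPolynomial QsChow K934.PnBasic K934.PnInv K934.PnProj K934.PnPres

namespace K934.PnKer

variable (n : ℕ) [hF : Fact (2 ≤ n)]

/-- The standard exponents with no `e_1`, `x`. -/
def red (f : Fin (numVars n) →₀ ℕ) : Prop := good n f ∧ f (i0 n) = 0 ∧ f (i1 n) % 2 = 0

/-- Span of the reduced monomials. -/
noncomputable def NN : Submodule (ZMod 2) (FreeE n) := Submodule.span (ZMod 2) {q | ∃ f, red n f ∧ q = mm n f}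

/-- The span of the section and the relations. -/
noncomputable def VV : Submodule (ZMod 2) (FreeE n) :=
  LinearMap.range (lam n) ⊔ (presIdeal n).restrictScalars (ZMod 2)

theorem pres_le_VV {q : FreeE n} (h : q ∈ presIdeal n) : q ∈ VV n := Submodule.mem_sup_right h

theorem lamFun_mem_VV (f : Fin (numVars n) →₀ ℕ) : lamFun n f ∈ VV n :=
  Submodule.mem_sup_left ⟨monomial f 1, lam_monomial n f⟩

/-- Every polynomial is reduced modulo `bigI`. -/
theorem reduce (q : FreeE n) : ∃ w ∈ NN n, q - w ∈ bigI n := by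
  have := induct (NN n ⊔ (bigI n).restrictScalars (ZMod 2)) LinearMap.id q (fun g _ => by
    rw [LinearMap.id_apply]
    -- divisibility helper
    have hdiv : ∀ (o : Option (Fin (numVars n))) (c : ℕ), c ≤ g o → (X o ^ c : FreeE n) ∈ bigI n →
        (monomial g 1 : FreeE n) ∈ NN n ⊔ (bigI n).restrictScalars (ZMod 2) := by
      intro o c hc hm
      refine Submodule.mem_sup_right ?_
      rw [Submodule.restrictScalars_mem]
      have : (monomial g 1 : FreeE n) = X o ^ c * monomial (g - Finsupp.single o c) 1 := by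
        rw [X_pow_eq_monomial, monomial_mul, one_mul, add_tsub_cancel_of_le]
        rwa [Finsupp.single_le_iff]
      rw [this]
      exact Ideal.mul_mem_right _ _ hm
    by_cases hx : g none = 0
    swap
    · exact hdiv none 1 (by omega) (by rw [pow_one]; exact x_bigI n)
    by_cases he0 : g (some (i0 n)) = 0
    swap
    · exact hdiv (some (i0 n)) 1 (by omega) (by rw [pow_one]; exact e0_bigI n)
    by_cases he1 : 2 ^ (klog n 2 - 1) ≤ g (some (i1 n))
    · exact hdiv _ _ he1 (e1_bigI n)
    by_cases hei : ∃ i, i ≠ i0 n ∧ i ≠ i1 n ∧ 2 ^ klog n (i.val + 1) ≤ g (some i)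
    · obtain ⟨i, h0, h1, hi⟩ := hei
      exact hdiv _ _ hi (e_bigI n h0 h1)
    push Not at hei
    refine Submodule.mem_sup_left (Submodule.subset_span ?_)
    refine ⟨Finsupp.equivFunOnFinite.symm (fun i => if i = i1 n then 2 * g (some i) else g (some i)), ⟨?_, ?_, ?_⟩, ?_⟩
    · intro i
      change (if i = i1 n then 2 * g (some i) else g (some i)) < _
      by_cases h0 : i = i0 n
      · subst h0
        rw [if_neg (i1_ne_i0 n).symm, he0, bound_i0]; have := hF.out; omega
      · rw [bound_of_ne n h0]
        split_ifs with h1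
        · subst h1
          have e : (i1 n).val + 1 = 2 := rfl
          rw [e]
          have hk : klog n 2 = (klog n 2 - 1) + 1 := by
            have := klog_pos hF.out (le_refl 2) (numVars_ge hF.out); omega
          rw [hk, pow_succ]; omega
        · exact hei i h0 h1
    · change (if i0 n = i1 n then 2 * g (some (i0 n)) else g (some (i0 n))) = 0
      rw [if_neg (i1_ne_i0 n).symm, he0]
    · change (if i1 n = i1 n then 2 * g (some (i1 n)) else g (some (i1 n))) % 2 = 0
      rw [if_pos rfl]; omega
    · rw [monomial_eq, C_1, one_mul, Finsupp.prod_fintype _ _ (fun i => pow_zero _), Fintype.prod_option, hx, pow_zero,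
        one_mul, ← Finset.mul_prod_erase Finset.univ _ (Finset.mem_univ (i0 n)), he0, pow_zero, one_mul]
      unfold mm
      refine Finset.prod_congr rfl fun i _ => ?_
      unfold K934.PnPres.em
      change _ = if i = i1 n then X (some i) ^ ((if i = i1 n then 2 * g (some i) else g (some i)) / 2) else
        X (some i) ^ (if i = i1 n then 2 * g (some i) else g (some i))
      split_ifs with h
      · rw [Nat.mul_div_cancel_left _ (by norm_num)]
      · rfl)
  rw [LinearMap.id_apply] at this
  obtain ⟨w, hw, r, hr, h⟩ := Submodule.mem_sup.mp this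
  exact ⟨w, hw, by rw [← h, add_sub_cancel_left]; exact hr⟩

theorem bigI_elim {q : FreeE n} (hq : q ∈ bigI n) :
    ∃ a b r : FreeE n, r ∈ presIdeal n ∧ q = X (some (i0 n)) * a + X none * b + r := by
  unfold bigI at hq
  obtain ⟨r, hr, s, hs, rfl⟩ := Submodule.mem_sup.mp hq
  obtain ⟨a, b, h⟩ := Ideal.mem_span_pair.mp hs
  exact ⟨a, b, r, hr, by rw [← h]; ring⟩

theorem decompE (q : FreeE n) : ∃ w ∈ NN n, ∃ a b r : FreeE n, r ∈ presIdeal n ∧
    q = w + X (some (i0 n)) * a + X none * b + r := by
  obtain ⟨w, hw, h⟩ := reduce n q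
  obtain ⟨a, b, r, hr, h2⟩ := bigI_elim n h
  exact ⟨w, hw, a, b, r, hr, by linear_combination h2⟩

/-- changing the first two exponents -/
theorem mm_add {f : Fin (numVars n) →₀ ℕ} (hf : red n f) (k l : ℕ) (hl : l ≤ 1) :
    mm n (f + (Finsupp.single (i0 n) k + Finsupp.single (i1 n) l)) = mm n f := by
  refine mm_congr n fun i hi => ?_
  by_cases h : i = i1 n
  · subst h
    unfold K934.PnPres.em
    rw [if_pos rfl]
    congr 1
    simp only [Finsupp.add_apply, Finsupp.single_apply, if_neg hi.symm, if_pos, zero_add]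
    have := hf.2.2
    omega
  · congr 1
    simp only [Finsupp.add_apply, Finsupp.single_apply, if_neg hi.symm, if_neg (Ne.symm h), zero_add, add_zero]

theorem good_add {f : Fin (numVars n) →₀ ℕ} (hf : red n f) {k l : ℕ} (hk : k < n) (hl : l ≤ 1) :
    good n (f + (Finsupp.single (i0 n) k + Finsupp.single (i1 n) l)) := by
  intro i
  by_cases h0 : i = i0 n
  · subst h0
    simp only [Finsupp.add_apply, Finsupp.single_apply, if_pos, if_neg (i1_ne_i0 n), bound_i0, hf.2.1]
    omega
  by_cases h : i = i1 n
  · subst h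
    simp only [Finsupp.add_apply, Finsupp.single_apply, if_neg (Ne.symm h0), if_pos, zero_add]
    have h1 := hf.1 (i1 n)
    have h2 := hf.2.2
    rw [bound_of_ne n h0] at h1 ⊢
    have e : (i1 n).val + 1 = 2 := rfl
    rw [e] at h1 ⊢
    have hk : klog n 2 = (klog n 2 - 1) + 1 := by
      have := klog_pos hF.out (le_refl 2) (numVars_ge hF.out); omega
    rw [hk, pow_succ] at h1 ⊢
    omega
  · simp only [Finsupp.add_apply, Finsupp.single_apply, if_neg (Ne.symm h0), if_neg (Ne.symm h), add_zero]
    exact hf.1 i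

theorem x_NN {w : FreeE n} (hw : w ∈ NN n) : X none * w ∈ VV n := by
  have : NN n ≤ (VV n).comap (LinearMap.mulLeft (ZMod 2) (X none : FreeE n)) := by
    unfold NN
    rw [Submodule.span_le]
    rintro _ ⟨f, hf, rfl⟩
    change X none * mm n f ∈ VV n
    have h2 := hF.out
    have h := lamFun_mem_VV n (f + (Finsupp.single (i0 n) (n - 1) + Finsupp.single (i1 n) 1))
    unfold lamFun at h
    rw [if_pos (good_add n hf (by omega) (le_refl 1)), mm_add n hf _ _ (le_refl 1), if_neg, if_pos] at h
    · exact h
    · simp only [Finsupp.add_apply, Finsupp.single_apply, if_pos, if_neg (i1_ne_i0 n), hf.2.1]; omega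
    · have := hf.2.2
      simp only [Finsupp.add_apply, Finsupp.single_apply, if_pos, if_neg (i1_ne_i0 n).symm]; omega
  exact this hw

theorem e0_NN {w : FreeE n} (hw : w ∈ NN n) (k : ℕ) : X (some (i0 n)) ^ k * w ∈ VV n := by
  by_cases hk : k < n
  · have : NN n ≤ (VV n).comap (LinearMap.mulLeft (ZMod 2) (X (some (i0 n)) ^ k : FreeE n)) := by
      unfold NN
      rw [Submodule.span_le]
      rintro _ ⟨f, hf, rfl⟩
      change X (some (i0 n)) ^ k * mm n f ∈ VV n
      have h := lamFun_mem_VV n (f + (Finsupp.single (i0 n) k + Finsupp.single (i1 n) 0))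
      unfold lamFun at h
      rw [if_pos (good_add n hf hk (Nat.zero_le 1)), mm_add n hf _ _ (Nat.zero_le 1), if_pos] at h
      · have e : (f + (Finsupp.single (i0 n) k + Finsupp.single (i1 n) 0) : Fin (numVars n) →₀ ℕ) (i0 n) = k := by
          simp only [Finsupp.add_apply, Finsupp.single_apply, if_pos, if_neg (i1_ne_i0 n), hf.2.1]; omega
        rwa [e] at h
      · have := hf.2.2
        simp only [Finsupp.add_apply, Finsupp.single_apply, if_pos, if_neg (i1_ne_i0 n).symm]; omega
    exact this hw
  · refine pres_le_VV n ?_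
    refine Ideal.mul_mem_right _ _ ?_
    have : k = n + (k - n) := by omega
    rw [this, pow_add]
    exact Ideal.mul_mem_right _ _ (e0_pow_mem n)

theorem x_mul_mem (q : FreeE n) : X none * q ∈ VV n := by
  obtain ⟨w, hw, a, b, r, hr, rfl⟩ := decompE n q
  have : X none * (w + X (some (i0 n)) * a + X none * b + r) =
      X none * w + ((X (some (i0 n)) * X none) * a + X none ^ 2 * b + X none * r) := by ring
  rw [this]
  refine Submodule.add_mem _ (x_NN n hw) (pres_le_VV n ?_)
  exact Ideal.add_mem _ (Ideal.add_mem _ (Ideal.mul_mem_right _ _ (e0_x_mem n))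
    (Ideal.mul_mem_right _ _ (x_sq_mem n))) (Ideal.mul_mem_left _ _ hr)

theorem e0_mul_mem (k : ℕ) (hk : k ≤ n) : ∀ q : FreeE n, X (some (i0 n)) ^ (n - k) * q ∈ VV n := by
  induction k with
  | zero =>
    intro q
    exact pres_le_VV n (Ideal.mul_mem_right _ _ (by rw [Nat.sub_zero]; exact e0_pow_mem n))
  | succ k ih =>
    intro q
    obtain ⟨w, hw, a, b, r, hr, rfl⟩ := decompE n q
    have e : n - k = (n - (k + 1)) + 1 := by omega
    have h1 := ih (by omega) a
    rw [e, pow_succ] at h1
    have : X (some (i0 n)) ^ (n - (k + 1)) * (w + X (some (i0 n)) * a + X none * b + r) =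
      X (some (i0 n)) ^ (n - (k + 1)) * w + X (some (i0 n)) ^ (n - (k + 1)) * X (some (i0 n)) * a +
        X none * (X (some (i0 n)) ^ (n - (k + 1)) * b) + X (some (i0 n)) ^ (n - (k + 1)) * r := by ring
    rw [this]
    exact Submodule.add_mem _ (Submodule.add_mem _ (Submodule.add_mem _ (e0_NN n hw _) h1) (x_mul_mem n _))
      (pres_le_VV n (Ideal.mul_mem_left _ _ hr))

theorem mem_VV (q : FreeE n) : q ∈ VV n := by
  have := e0_mul_mem n n (le_refl n) q
  simpa using this

theorem ker_phi : RingHom.ker (phi n) = presIdeal n := by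
  refine le_antisymm ?_ (presIdeal_le n)
  intro q hq
  rw [RingHom.mem_ker] at hq
  obtain ⟨l, ⟨w, rfl⟩, r, hr, rfl⟩ := Submodule.mem_sup.mp (mem_VV n q)
  have h1 : phi n r = 0 := presIdeal_le n hr
  rw [map_add, h1, add_zero, phi_lam] at hq
  have h2 := lam_trunc n (theta0_injective n hq)
  rw [lam_pi1] at h2
  rw [h2, zero_add]
  exact hr

end K934.PnKer
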