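import Groth.Agent.QsChow.K934.PnEven

/-!
# `n` a power of two
-/

set_option autoImplicit false
set_option linter.unusedSectionVars false

open MvPolynomial QsChow K934.PnBasic K934.PnInv K934.PnProj K934.PnPres K934.PnKer K934.PnArith K934.PnSpecial
  K934.PnEven

namespace K934.PnPow

variable (n : ℕ) [hF : Fact (2 ≤ n)] (b : ℕ) (hb : 1 ≤ b) (hnb : n = 2 ^ b)

include hnb in
theorem twoExp_eq : twoExp n = b := twoExp_of_eq (c := 1) odd_one (by rw [mul_one]; exact hnb)

include hnb in
theorem kprime_two_eq : kprime n 2 = b := by rw [kprime_two, hnb, Nat.log_pow (by norm_num)]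

include hb hnb in
theorem klog_two_eq : klog n 2 = b := by
  unfold klog
  have e : 2 * 2 - 3 = 1 := rfl
  rw [e, Nat.div_one]
  have h2 : 2 ≤ 2 ^ b := by
    calc 2 = 2 ^ 1 := rfl
      _ ≤ _ := Nat.pow_le_pow_right (by norm_num) hb
  apply le_antisymm
  · have := Nat.log_lt_of_lt_pow (b := 2) (x := b + 1) (y := 2 * n - 1) (by omega) (by rw [pow_succ]; omega)
    omega
  · apply Nat.le_log_of_pow_le (by norm_num); omega

include hnb in
theorem ne_j {j : ℕ} (hj : 3 ≤ j) (m : ℕ) : 2 * n ≠ 2 ^ m * (2 * j - 3) :=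
  ne_of_ne (n := n) (j := j) (c := 1) odd_one (by rw [mul_one]; exact hnb) (by omega) (by omega) m

include hb hnb in
theorem exp_ge' {j : ℕ} (hj : 3 ≤ j) : n ≤ (2 * j - 4) * 2 ^ klog n j := by
  have hlt := lt_klog hF.out (j := j) (by omega) (ne_j n b hnb hj)
  set k := klog n j
  by_cases hk : b ≤ k
  · have : 2 ^ b ≤ 2 ^ k := Nat.pow_le_pow_right (by norm_num) hk
    calc n = 2 ^ b := hnb
      _ ≤ 2 ^ k := this
      _ ≤ (2 * j - 4) * 2 ^ k := Nat.le_mul_of_pos_left _ (by omega)
  · have hk' : b = (b - k) + k := by omega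
    rw [hnb, hk', pow_add] at hlt ⊢
    have h1 := Nat.lt_of_mul_lt_mul_right hlt
    exact Nat.mul_le_mul_right _ (by omega)

/-- the polynomial `S_2` downstairs -/
noncomputable def SP : FreeP n :=
  ∑ t ∈ Finset.range b, X (i0 n) ^ (2 ^ b - 2 ^ (t + 1)) * X (i1 n) ^ 2 ^ t

include hb hnb in
theorem iota_SP : iota n (SP n b) = sPoly n 2 := by
  unfold SP sPoly
  rw [klog_two_eq n b hb hnb, map_sum]
  refine Finset.sum_congr rfl fun t _ => ?_
  rw [map_mul, map_pow, map_pow, iota_X, iota_X, evar_one, evar_two]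

include hb hnb in
theorem rho_sPoly (a : FreeP n) : rho n a (sPoly n 2) = SP n b := by
  rw [← iota_SP n b hb hnb, rho_iota]

/-- square of `S_2` -/
theorem sq_low {A : Type*} [CommRing A] [CharP A 2] (a c : A) (b : ℕ) (hb : 1 ≤ b) :
    (∑ t ∈ Finset.range b, a ^ (2 ^ b - 2 ^ (t + 1)) * c ^ 2 ^ t) ^ 2 + c ^ 2 ^ b ∈ Ideal.span {a ^ 2 ^ b} := by
  obtain ⟨k, rfl⟩ : ∃ k, b = k + 1 := ⟨b - 1, by omega⟩
  rw [CharTwo.sum_sq, Finset.sum_range_succ, Nat.sub_self, pow_zero, one_mul, ← pow_mul, ← pow_succ, add_assoc,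
    CharTwo.add_self_eq_zero, add_zero]
  refine Ideal.sum_mem _ fun t ht => ?_
  have ht' := Finset.mem_range.mp ht
  rw [mul_pow, ← pow_mul]
  refine Ideal.mul_mem_right _ _ ?_
  rw [Ideal.mem_span_singleton]
  apply pow_dvd_pow
  have h1 : 2 ^ (t + 1) ≤ 2 ^ k := Nat.pow_le_pow_right (by norm_num) (by omega)
  rw [pow_succ]
  omega

theorem powIdeal_gen (i : Fin (numVars n)) : X i ^ 2 ^ kprime n (i.val + 1) ∈ powIdeal n := by
  rw [← evarE_succ]
  exact Ideal.subset_span (Or.inr ⟨i, rfl⟩)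

include hnb in
theorem powIdeal_gen0 : X (i0 n) * SP n b ∈ powIdeal n := by
  refine Ideal.subset_span (Or.inl ?_)
  rw [Set.mem_singleton_iff, evarE_one, evarE_two, kprime_two_eq n b hnb]
  rfl

include hnb in
theorem e0_pow_powIdeal : (X (i0 n) : FreeP n) ^ n ∈ powIdeal n := by
  have := powIdeal_gen n (i0 n)
  have e : kprime n ((i0 n).val + 1) = twoExp n := kprime_one
  rwa [e, twoExp_eq n b hnb, ← hnb] at this

include hb hnb in
theorem pres_le_comap : presIdeal n ≤ (powIdeal n).comap (rho n (SP n b)) := by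
  have hn := hF.out
  have he0 := e0_pow_powIdeal n b hnb
  have hpow : ∀ m, n ≤ m → (X (i0 n) : FreeP n) ^ m ∈ powIdeal n := fun m hm => by
    rw [← Nat.sub_add_cancel hm, pow_add]; exact Ideal.mul_mem_left _ _ he0
  have hg0 := powIdeal_gen0 n b hnb
  have hg0' : ∀ m, 1 ≤ m → (X (i0 n) : FreeP n) ^ m * SP n b ∈ powIdeal n := fun m hm => by
    have : m = (m - 1) + 1 := by omega
    rw [this, pow_succ, mul_assoc]; exact Ideal.mul_mem_left _ _ hg0
  unfold presIdeal
  rw [Ideal.span_le]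
  rintro q (hq | ⟨i, rfl⟩)
  · simp only [Set.mem_insert_iff, Set.mem_singleton_iff] at hq
    rcases hq with rfl | rfl | rfl
    · rw [SetLike.mem_coe, Ideal.mem_comap, evar_one, map_pow, rho_some]; exact he0
    · rw [SetLike.mem_coe, Ideal.mem_comap, evar_one]
      unfold xvar
      rw [map_mul, rho_some, rho_none]; exact hg0
    · rw [SetLike.mem_coe, Ideal.mem_comap]
      unfold xvar
      rw [map_pow, rho_none]
      have h1 := sq_low (X (i0 n) : FreeP n) (X (i1 n)) b hb
      have he0' : (X (i0 n) : FreeP n) ^ 2 ^ b ∈ powIdeal n := by rw [← hnb]; exact he0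
      have h2 := (Ideal.span_singleton_le_iff_mem _).mpr he0' h1
      refine (Ideal.add_mem_iff_left _ ?_).mp h2
      have := powIdeal_gen n (i1 n)
      have e : kprime n ((i1 n).val + 1) = b := kprime_two_eq n b hnb
      rwa [e] at this
  · by_cases h0 : i = i0 n
    · subst h0; change hrel n ((i0 n).val + 1) ∈ _; rw [hrel_i0]; exact Ideal.zero_mem _
    by_cases h1 : i = i1 n
    · subst h1
      change rho n _ (hrel n 2) ∈ powIdeal n
      rw [hrel_two_eq, map_add, map_mul, rho_none, rho_sPoly n b hb hnb, klog_two_eq n b hb hnb, ← hnb, Nat.sub_self,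
        pow_zero, map_one, one_mul, CharTwo.add_self_eq_zero]
      exact Ideal.zero_mem _
    · have a0 : i.val ≠ 0 := fun h => h0 (Fin.ext h)
      have a1 : i.val ≠ 1 := fun h => h1 (Fin.ext h)
      change rho n _ (hrel n (i.val + 1)) ∈ powIdeal n
      have hne := ne_j n b hnb (j := i.val + 1) (by omega)
      have hlt := lt_klog hn (j := i.val + 1) (by omega) hne
      have hkk : klog n (i.val + 1) = kprime n (i.val + 1) := klog_ge hn (by omega) i.isLt hne
      rw [map_hrel_ge n h0 h1]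
      refine Ideal.add_mem _ (Ideal.add_mem _ ?_ (hg0' _ (by omega)))
        (Ideal.mul_mem_right _ _ (hpow _ (exp_ge' n b hb hnb (by omega))))
      have := powIdeal_gen n i
      rwa [← hkk] at this

theorem e0_pres (m : ℕ) (hm : n ≤ m) : (X (some (i0 n)) : FreeE n) ^ m ∈ presIdeal n := by
  rw [← Nat.sub_add_cancel hm, pow_add]; exact Ideal.mul_mem_left _ _ (e0_pow_mem n)

theorem e0x_pres (m : ℕ) (hm : 1 ≤ m) : (X (some (i0 n)) : FreeE n) ^ m * X none ∈ presIdeal n := by
  have : m = (m - 1) + 1 := by omega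
  rw [this, pow_succ, mul_assoc]
  exact Ideal.mul_mem_left _ _ (e0_x_mem n)

include hb hnb in
theorem x_add_S : (X none : FreeE n) + sPoly n 2 ∈ presIdeal n := by
  have h := hrel_mem n (i1 n)
  have e2 : (i1 n).val + 1 = 2 := rfl
  rwa [e2, hrel_two_eq, klog_two_eq n b hb hnb, ← hnb, Nat.sub_self, pow_zero, one_mul] at h

include hb hnb in
theorem powIdeal_le_comap : powIdeal n ≤ (presIdeal n).comap (iota n) := by
  have hn := hF.out
  have hxS := x_add_S n b hb hnb
  unfold powIdeal
  rw [Ideal.span_le]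
  rintro q (hq | ⟨i, rfl⟩)
  · rw [Set.mem_singleton_iff] at hq
    subst hq
    rw [SetLike.mem_coe, Ideal.mem_comap, kprime_two_eq n b hnb, evarE_one, evarE_two]
    change iota n (X (i0 n) * SP n b) ∈ _
    rw [map_mul, iota_X, iota_SP n b hb hnb]
    have h1 := Ideal.mul_mem_left _ (X (some (i0 n)) : FreeE n) hxS
    rw [mul_add] at h1
    exact (Ideal.add_mem_iff_right _ (e0_x_mem n)).mp h1
  · change iota n (evarE n (i.val + 1) ^ 2 ^ kprime n (i.val + 1)) ∈ presIdeal n
    rw [evarE_succ, map_pow, iota_X]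
    by_cases h0 : i = i0 n
    · subst h0
      have e : kprime n ((i0 n).val + 1) = twoExp n := kprime_one
      rw [e, twoExp_eq n b hnb, ← hnb]; exact e0_pow_mem n
    by_cases h1 : i = i1 n
    · subst h1
      have e : kprime n ((i1 n).val + 1) = b := kprime_two_eq n b hnb
      rw [e]
      have h3 := sq_low (X (some (i0 n)) : FreeE n) (X (some (i1 n))) b hb
      have h4 : (∑ t ∈ Finset.range b, X (some (i0 n)) ^ (2 ^ b - 2 ^ (t + 1)) * X (some (i1 n)) ^ 2 ^ t : FreeE n) =
          sPoly n 2 := by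
        unfold sPoly; rw [klog_two_eq n b hb hnb, evar_one, evar_two]
      rw [h4] at h3
      have h5 : Ideal.span {(X (some (i0 n)) : FreeE n) ^ 2 ^ b} ≤ presIdeal n := by
        rw [Ideal.span_singleton_le_iff_mem, ← hnb]; exact e0_pow_mem n
      refine (Ideal.add_mem_iff_right _ ?_).mp (h5 h3)
      have h6 := Ideal.mul_mem_left _ ((X none : FreeE n) + sPoly n 2) hxS
      have e : ((X none : FreeE n) + sPoly n 2) * (X none + sPoly n 2) = X none ^ 2 + sPoly n 2 ^ 2 := by
        rw [← CharTwo.add_sq]; ring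
      rw [e] at h6
      exact (Ideal.add_mem_iff_right _ (x_sq_mem n)).mp h6
    · have a0 : i.val ≠ 0 := fun h => h0 (Fin.ext h)
      have a1 : i.val ≠ 1 := fun h => h1 (Fin.ext h)
      have hne := ne_j n b hnb (j := i.val + 1) (by omega)
      have hlt := lt_klog hn (j := i.val + 1) (by omega) hne
      have hkk : klog n (i.val + 1) = kprime n (i.val + 1) := klog_ge hn (by omega) i.isLt hne
      have h := hrel_mem n i
      rw [hrel_ge_eq n h0 h1] at h
      rw [← hkk]
      refine (Ideal.add_mem_iff_left _ ?_).mp ((Ideal.add_mem_iff_left _ ?_).mp h)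
      · exact e0x_pres n _ (by omega)
      · exact Ideal.mul_mem_right _ _ (e0_pres n _ (exp_ge' n b hb hnb (by omega)))

include hb hnb in
theorem ker_psi : RingHom.ker (psi n) = powIdeal n := by
  ext q
  rw [RingHom.mem_ker, psi_eq, ← RingHom.mem_ker, ker_phi]
  exact iota_mem_iff n _ _ _ (pres_le_comap n b hb hnb) (powIdeal_le_comap n b hb hnb) q

include hb hnb in
theorem range_psi (q : FreeE n) : ∃ p, psi n p = phi n q := by
  refine ⟨rho n (SP n b) q, ?_⟩
  have h := sub_iota_rho n (SP n b) (presIdeal n) (by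
    rw [iota_SP n b hb hnb, CharTwo.sub_eq_add]; exact x_add_S n b hb hnb) q
  have h2 : phi n (q - iota n (rho n (SP n b) q)) = 0 := presIdeal_le n h
  rw [map_sub, sub_eq_zero] at h2
  rw [psi_eq, h2]

end K934.PnPow
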