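import Groth.Agent.QsChow.K934.PnProj
import Mathlib.Algebra.CharP.Two
import Mathlib.Algebra.CharP.Lemmas

/-!
# The presentation of the fixed subalgebra of `P_n`
-/

set_option autoImplicit false
set_option linter.unusedSectionVars false

open MvPolynomial QsChow K934.PnBasic K934.PnInv K934.PnProj

namespace K934.PnPres

variable (n : ℕ) [hF : Fact (2 ≤ n)]

omit hF in
theorem evar_succ (i : Fin (numVars n)) : evar n (i.val + 1) = X (some i) := by
  unfold evar
  rw [dif_pos ⟨Nat.succ_pos _, i.isLt⟩]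
  rfl

omit hF in
theorem evar_one : evar n 1 = X (some (i0 n)) := evar_succ n (i0 n)

theorem evar_two : evar n 2 = X (some (i1 n)) := evar_succ n (i1 n)

/-- Frobenius powers of `ε_2`. -/
theorem frob_v1 (k : ℕ) : v n (i1 n) ^ 2 ^ k =
    ∑ t ∈ Finset.range k, v n (i0 n) ^ (2 ^ k - 2 ^ (t + 1)) * ebar n (i1 n) ^ 2 ^ t +
      v n (i0 n) ^ (2 ^ k - 1) * v n (i1 n) := by
  induction k with
  | zero => simp
  | succ k ih =>
    rw [pow_succ 2 k, pow_mul, ih, CharTwo.add_sq, CharTwo.sum_sq, Finset.sum_range_succ']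
    have h1 : ∀ t ∈ Finset.range k, (v n (i0 n) ^ (2 ^ k - 2 ^ (t + 1)) * ebar n (i1 n) ^ 2 ^ t) ^ 2 =
        v n (i0 n) ^ (2 ^ k * 2 - 2 ^ (t + 1 + 1)) * ebar n (i1 n) ^ 2 ^ (t + 1) := by
      intro t _
      rw [mul_pow, ← pow_mul, ← pow_mul, Nat.sub_mul, pow_succ 2 (t + 1), pow_succ 2 t]
    rw [Finset.sum_congr rfl h1, mul_pow, v1_sq, ← pow_mul]
    have h2 : (2 ^ k - 1) * 2 = 2 ^ k * 2 - 2 := by rw [Nat.sub_mul, one_mul]
    have h3 : 2 ^ k * 2 - 1 = (2 ^ k * 2 - 2) + 1 := by
      have := Nat.one_le_two_pow (n := k); omega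
    rw [h2, h3, zero_add, pow_one, pow_zero, pow_one, pow_succ (v n (i0 n))]
    ring

theorem phi_sPoly (j : ℕ) : phi n (sPoly n j) =
    ∑ t ∈ Finset.range (klog n j), v n (i0 n) ^ (2 ^ klog n j - 2 ^ (t + 1)) * ebar n (i1 n) ^ 2 ^ t := by
  unfold sPoly
  rw [map_sum]
  refine Finset.sum_congr rfl fun t _ => ?_
  rw [map_mul, map_pow, map_pow, evar_one, evar_two, phi_some, phi_some, ebar_i0]

theorem phi_hrel (i : Fin (numVars n)) : phi n (hrel n (i.val + 1)) = 0 := by
  unfold hrel
  by_cases h0 : i = i0 n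
  · subst h0; simp [i0]
  by_cases h1 : i = i1 n
  · subst h1
    have : (i1 n).val + 1 = 2 := rfl
    rw [this, if_pos rfl, map_add, map_mul, map_pow, phi_sPoly, evar_one, phi_some, ebar_i0]
    unfold xvar
    rw [phi_none]
    have hk := klog_spec hF.out (le_refl 2)
    have hb := v_pow_bound n (i1 n)
    rw [bound_of_ne n (i1_ne_i0 n), this, frob_v1] at hb
    rw [← mul_assoc, ← pow_add]
    have e : 2 ^ klog n 2 - n + (n - 1) = 2 ^ klog n 2 - 1 := by
      have := hF.out; omega
    rw [e, add_comm]; exact hb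
  · have a0 : i.val ≠ 0 := fun h => h0 (Fin.ext h)
    have a1 : i.val ≠ 1 := fun h => h1 (Fin.ext h)
    have hk := klog_spec hF.out (j := i.val + 1) (by omega)
    rw [if_neg (by omega), if_pos ⟨by omega, i.isLt⟩]
    simp only [map_add, map_mul, map_pow, phi_sPoly, evar_one, phi_some, ebar_i0, evar_succ]
    unfold xvar
    rw [phi_none]
    have hb := v_pow_bound n i
    rw [bound_of_ne n h0, v_ge n h0 h1, add_pow_char_pow, mul_pow, frob_v1, ← pow_mul] at hb
    set k := klog n (i.val + 1)
    have e : (2 * (i.val + 1) - 3) * 2 ^ k - n + (n - 1) = (2 * (i.val + 1) - 4) * 2 ^ k + (2 ^ k - 1) := by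
      have h1 : (2 * (i.val + 1) - 3) * 2 ^ k = (2 * (i.val + 1) - 4) * 2 ^ k + 2 ^ k := by
        have : 2 * (i.val + 1) - 3 = (2 * (i.val + 1) - 4) + 1 := by omega
        rw [this]; ring
      have h2 := Nat.one_le_two_pow (n := k)
      have := hF.out; omega
    rw [← mul_assoc, ← pow_add, e, pow_add]
    linear_combination hb

theorem presIdeal_le : presIdeal n ≤ RingHom.ker (phi n) := by
  unfold presIdeal
  rw [Ideal.span_le]
  rintro q (hq | ⟨i, rfl⟩)
  · simp only [Set.mem_insert_iff, Set.mem_singleton_iff] at hq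
    have h2 := hF.out
    rcases hq with rfl | rfl | rfl
    · rw [SetLike.mem_coe, RingHom.mem_ker, map_pow, evar_one, phi_some, ebar_i0, v_i0_pow]
    · rw [SetLike.mem_coe, RingHom.mem_ker, map_mul, evar_one, phi_some, ebar_i0]
      unfold xvar
      rw [phi_none, ← mul_assoc, ← pow_succ', Nat.sub_add_cancel (by omega), v_i0_pow, zero_mul]
    · rw [SetLike.mem_coe, RingHom.mem_ker, map_pow]
      unfold xvar
      rw [phi_none, mul_pow, ← pow_mul, v_i0_pow' n (by omega), zero_mul]
  · exact phi_hrel n i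

theorem e0_pow_mem : (X (some (i0 n)) : FreeE n) ^ n ∈ presIdeal n := by
  rw [← evar_one]; exact Ideal.subset_span (Or.inl (by simp))

theorem e0_x_mem : (X (some (i0 n)) * X none : FreeE n) ∈ presIdeal n := by
  rw [← evar_one]; exact Ideal.subset_span (Or.inl (by simp [xvar]))

theorem x_sq_mem : (X none ^ 2 : FreeE n) ∈ presIdeal n :=
  Ideal.subset_span (Or.inl (by simp [xvar]))

theorem hrel_mem (i : Fin (numVars n)) : hrel n (i.val + 1) ∈ presIdeal n :=
  Ideal.subset_span (Or.inr ⟨i, rfl⟩)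

/-- The ideal generated by the relations, `e_1` and `x`. -/
noncomputable def bigI : Ideal (FreeE n) := presIdeal n ⊔ Ideal.span {X (some (i0 n)), X none}

theorem e0_bigI : (X (some (i0 n)) : FreeE n) ∈ bigI n :=
  Ideal.mem_sup_right (Ideal.subset_span (by simp))

theorem x_bigI : (X none : FreeE n) ∈ bigI n :=
  Ideal.mem_sup_right (Ideal.subset_span (by simp))

theorem e1_bigI : (X (some (i1 n)) : FreeE n) ^ 2 ^ (klog n 2 - 1) ∈ bigI n := by
  have h := Ideal.mem_sup_left (T := Ideal.span {X (some (i0 n)), X none}) (hrel_mem n (i1 n))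
  change _ ∈ bigI n at h
  have e : (i1 n).val + 1 = 2 := rfl
  unfold hrel at h
  rw [e, if_pos rfl] at h
  have hx : evar n 1 ^ (2 ^ klog n 2 - n) * xvar n ∈ bigI n := Ideal.mul_mem_left _ _ (x_bigI n)
  have h2 := (Ideal.add_mem_iff_right _ hx).mp h
  unfold sPoly at h2
  have hk : klog n 2 = (klog n 2 - 1) + 1 := by
    have := klog_pos hF.out (le_refl 2) (numVars_ge hF.out); omega
  rw [hk, Finset.sum_range_succ] at h2
  have h3 : ∑ t ∈ Finset.range (klog n 2 - 1), evar n 1 ^ (2 ^ (klog n 2 - 1 + 1) - 2 ^ (t + 1)) * evar n 2 ^ 2 ^ t ∈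
      bigI n := by
    refine Ideal.sum_mem _ fun t ht => Ideal.mul_mem_right _ _ ?_
    rw [evar_one]
    refine Ideal.pow_mem_of_mem _ (e0_bigI n) _ ?_
    have : 2 ^ (t + 1) < 2 ^ (klog n 2 - 1 + 1) :=
      Nat.pow_lt_pow_right (by norm_num) (by have := Finset.mem_range.mp ht; omega)
    omega
  have h4 := (Ideal.add_mem_iff_right _ h3).mp h2
  rw [Nat.sub_self, pow_zero, one_mul, evar_two] at h4
  exact h4

theorem e_bigI {i : Fin (numVars n)} (h0 : i ≠ i0 n) (h1 : i ≠ i1 n) :
    (X (some i) : FreeE n) ^ 2 ^ (klog n (i.val + 1)) ∈ bigI n := by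
  have a0 : i.val ≠ 0 := fun h => h0 (Fin.ext h)
  have a1 : i.val ≠ 1 := fun h => h1 (Fin.ext h)
  have h := Ideal.mem_sup_left (T := Ideal.span {X (some (i0 n)), X none}) (hrel_mem n i)
  change _ ∈ bigI n at h
  unfold hrel at h
  rw [if_neg (by omega), if_pos ⟨by omega, i.isLt⟩, evar_succ] at h
  have hx : evar n 1 ^ ((2 * (i.val + 1) - 3) * 2 ^ klog n (i.val + 1) - n) * xvar n ∈ bigI n :=
    Ideal.mul_mem_left _ _ (x_bigI n)
  have hs : evar n 1 ^ ((2 * (i.val + 1) - 4) * 2 ^ klog n (i.val + 1)) * sPoly n (i.val + 1) ∈ bigI n := by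
    refine Ideal.mul_mem_right _ _ ?_
    rw [evar_one]
    refine Ideal.pow_mem_of_mem _ (e0_bigI n) _ ?_
    have := Nat.one_le_two_pow (n := klog n (i.val + 1))
    exact Nat.mul_pos (by omega) (by omega)
  have h2 := (Ideal.add_mem_iff_left _ hs).mp h
  exact (Ideal.add_mem_iff_left _ hx).mp h2

/-- The blocks of the standard monomials upstairs. -/
noncomputable def em (i : Fin (numVars n)) (c : ℕ) : FreeE n :=
  if i = i1 n then X (some i) ^ (c / 2) else X (some i) ^ c

/-- product away from the first variable. -/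
noncomputable def mm (f : Fin (numVars n) →₀ ℕ) : FreeE n := ∏ i ∈ Finset.univ.erase (i0 n), em n i (f i)

theorem mm_congr {f g : Fin (numVars n) →₀ ℕ} (h : ∀ i, i ≠ i0 n → em n i (f i) = em n i (g i)) :
    mm n f = mm n g :=
  Finset.prod_congr rfl fun i hi => h i (Finset.ne_of_mem_erase hi)

open Classical in
/-- The section on monomials. -/
noncomputable def lamFun (f : Fin (numVars n) →₀ ℕ) : FreeE n :=
  if good n f then
    if f (i1 n) % 2 = 0 then X (some (i0 n)) ^ f (i0 n) * mm n f
    else if f (i0 n) = n - 1 then X none * mm n f else 0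
  else 0

/-- The section. -/
noncomputable def lam : FreeP n →ₗ[ZMod 2] FreeE n :=
  (basisMonomials (Fin (numVars n)) (ZMod 2)).constr (ZMod 2) (lamFun n)

theorem lam_monomial (f : Fin (numVars n) →₀ ℕ) : lam n (monomial f 1) = lamFun n f := by
  have := (basisMonomials (Fin (numVars n)) (ZMod 2)).constr_basis (ZMod 2) (lamFun n) f
  rwa [coe_basisMonomials] at this

/-- Projection on the monomials seen by the section. -/
noncomputable def pi1 : FreeP n →ₗ[ZMod 2] FreeP n :=
  (basisMonomials (Fin (numVars n)) (ZMod 2)).constr (ZMod 2)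
    (fun f => if f (i1 n) % 2 = 0 ∨ f (i0 n) = n - 1 then monomial f 1 else 0)

theorem pi1_monomial (f : Fin (numVars n) →₀ ℕ) :
    pi1 n (monomial f 1) = if f (i1 n) % 2 = 0 ∨ f (i0 n) = n - 1 then monomial f 1 else 0 := by
  have := (basisMonomials (Fin (numVars n)) (ZMod 2)).constr_basis (ZMod 2)
    (fun f : Fin (numVars n) →₀ ℕ => if f (i1 n) % 2 = 0 ∨ f (i0 n) = n - 1 then (monomial f 1 : FreeP n) else 0) f
  rwa [coe_basisMonomials] at this

theorem lam_pi1 (p : FreeP n) : lam n (pi1 n p) = lam n p := by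
  have : (lam n).comp (pi1 n) = lam n := ext_monomial _ _ fun f => by
    rw [LinearMap.comp_apply, pi1_monomial]
    split_ifs with h
    · rfl
    · rw [map_zero, lam_monomial]
      push Not at h
      unfold lamFun
      rw [if_neg h.1, if_neg h.2]
      split_ifs <;> rfl
  exact DFunLike.congr_fun this p

theorem lam_trunc {p : FreeP n} (hp : p ∈ truncIdeal n) : lam n p = 0 := by
  rw [mem_truncIdeal] at hp
  have := induct (⊥ : Submodule (ZMod 2) (FreeE n)) (lam n) p (fun f hf => by
    rw [lam_monomial]; unfold lamFun; rw [if_neg (hp f hf)]; exact Submodule.zero_mem _)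
  simpa using this

theorem phi_em {i : Fin (numVars n)} (c : ℕ) (h : i ≠ i1 n ∨ c % 2 = 0) : phi n (em n i c) = blk n i c := by
  by_cases h1 : i = i1 n
  · have hc : c % 2 = 0 := h.resolve_left (fun h' => h' h1)
    subst h1
    unfold em
    rw [if_pos rfl, map_pow, phi_some, blk_i1, hc, pow_zero, one_mul]
  · unfold em
    rw [if_neg h1, map_pow, phi_some, blk_ne n h1]

theorem phi_em_odd (c : ℕ) (h : c % 2 = 1) : v n (i1 n) * phi n (em n (i1 n) c) = blk n (i1 n) c := by
  unfold em
  rw [if_pos rfl, map_pow, phi_some, blk_i1, h, pow_one]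

theorem phi_lam (p : FreeP n) : phi n (lam n p) = theta0 n (pi1 n p) := by
  have : (phi n).toLinearMap.comp (lam n) = (theta0 n).comp (pi1 n) := ext_monomial _ _ fun f => by
    simp only [LinearMap.comp_apply, AlgHom.toLinearMap_apply]
    rw [pi1_monomial, lam_monomial]
    unfold lamFun
    by_cases hg : good n f
    · rw [if_pos hg]
      by_cases h1 : f (i1 n) % 2 = 0
      · rw [if_pos h1, if_pos (Or.inl h1), theta0_of_good n hg, map_mul, map_pow, phi_some, ebar_i0, ← blk_i0,
          ← Finset.mul_prod_erase Finset.univ _ (Finset.mem_univ (i0 n))]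
        congr 1
        unfold mm
        rw [map_prod]
        refine Finset.prod_congr rfl fun i _ => phi_em n _ ?_
        by_cases h : i = i1 n
        · subst h; exact Or.inr h1
        · exact Or.inl h
      · rw [if_neg h1]
        by_cases h0 : f (i0 n) = n - 1
        · rw [if_pos h0, if_pos (Or.inr h0), theta0_of_good n hg, map_mul, phi_none,
            ← Finset.mul_prod_erase Finset.univ _ (Finset.mem_univ (i0 n)), blk_i0, h0, mul_assoc]
          congr 1
          unfold mm
          have hmem : i1 n ∈ Finset.univ.erase (i0 n) := Finset.mem_erase.mpr ⟨i1_ne_i0 n, Finset.mem_univ _⟩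
          rw [map_prod, ← Finset.mul_prod_erase _ _ hmem, ← Finset.mul_prod_erase _ (fun i => blk n i (f i)) hmem,
            ← mul_assoc, phi_em_odd n _ (by omega)]
          congr 1
          refine Finset.prod_congr rfl fun i hi => phi_em n _ (Or.inl (Finset.ne_of_mem_erase hi))
        · rw [if_neg h0, if_neg (by tauto), map_zero, map_zero]
    · rw [if_neg hg]
      split_ifs
      · rw [map_zero, theta0_of_not_good n hg]
      · rw [map_zero, map_zero]
  exact DFunLike.congr_fun this p

end K934.PnPres
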