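import Groth.Agent.QsChow.K934.PnInv

/-!
# The projector on the even part, and the range of `1 + τ` modulo powers of `ε_1`
-/

set_option autoImplicit false

open MvPolynomial QsChow K934.PnBasic K934.PnInv

namespace K934.PnProj

variable (n : ℕ) [hF : Fact (2 ≤ n)]

/-- Even part of a polynomial with respect to `ε_2`. -/
noncomputable def pi0 : FreeP n →ₗ[ZMod 2] FreeP n :=
  (basisMonomials (Fin (numVars n)) (ZMod 2)).constr (ZMod 2)
    (fun f => if f (i1 n) % 2 = 0 then monomial f 1 else 0)

theorem pi0_monomial (f : Fin (numVars n) →₀ ℕ) :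
    pi0 n (monomial f 1) = if f (i1 n) % 2 = 0 then monomial f 1 else 0 := by
  have := (basisMonomials (Fin (numVars n)) (ZMod 2)).constr_basis (ZMod 2)
    (fun f : Fin (numVars n) →₀ ℕ => if f (i1 n) % 2 = 0 then (monomial f 1 : FreeP n) else 0) f
  rwa [coe_basisMonomials] at this

theorem ext_monomial {M : Type*} [AddCommGroup M] [Module (ZMod 2) M] {σ : Type*}
    (L L' : MvPolynomial σ (ZMod 2) →ₗ[ZMod 2] M) (h : ∀ f, L (monomial f 1) = L' (monomial f 1)) : L = L' := by
  refine (basisMonomials σ (ZMod 2)).ext fun f => ?_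
  rw [coe_basisMonomials]; exact h f

theorem pi0_pi0 (p : FreeP n) : pi0 n (pi0 n p) = pi0 n p := by
  have : (pi0 n).comp (pi0 n) = pi0 n := ext_monomial _ _ fun f => by
    rw [LinearMap.comp_apply, pi0_monomial]
    split_ifs with h
    · rw [pi0_monomial, if_pos h]
    · rw [map_zero]
  exact DFunLike.congr_fun this p

theorem pi0_X0 (p : FreeP n) : pi0 n (X (i0 n) * p) = X (i0 n) * pi0 n p := by
  have : (pi0 n).comp (LinearMap.mulLeft (ZMod 2) (X (i0 n))) = (LinearMap.mulLeft (ZMod 2) (X (i0 n))).comp (pi0 n) :=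
    ext_monomial _ _ fun f => by
      simp only [LinearMap.comp_apply, LinearMap.mulLeft_apply]
      rw [X, monomial_mul, one_mul, pi0_monomial, pi0_monomial]
      have : (Finsupp.single (i0 n) 1 + f : Fin (numVars n) →₀ ℕ) (i1 n) = f (i1 n) := by
        rw [Finsupp.add_apply, Finsupp.single_apply, if_neg (i1_ne_i0 n).symm, zero_add]
      rw [this]
      split_ifs
      · rw [monomial_mul, one_mul]
      · rw [mul_zero]
  exact DFunLike.congr_fun this p

theorem pi0_X0_pow (k : ℕ) (p : FreeP n) : pi0 n (X (i0 n) ^ k * p) = X (i0 n) ^ k * pi0 n p := by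
  induction k with
  | zero => simp
  | succ k ih => rw [pow_succ', mul_assoc, pi0_X0, ih, ← mul_assoc]

theorem pi0_trunc {p : FreeP n} (hp : p ∈ truncIdeal n) : pi0 n p ∈ truncIdeal n := by
  have hp' := (mem_truncIdeal n).mp hp
  exact induct ((truncIdeal n).restrictScalars (ZMod 2)) (pi0 n) p (fun f hf => by
    rw [pi0_monomial]
    split_ifs
    · rw [Submodule.restrictScalars_mem, mem_truncIdeal]
      intro g hg
      have : g = f := by
        have := support_monomial_subset hg
        simpa using this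
      rw [this]; exact hp' f hf
    · exact Submodule.zero_mem _)

section tau

variable (τ : P n →ₐ[ZMod 2] P n) (hτ1 : τ (eps n 1) = eps n 1)
    (hτ : ∀ j : ℕ, 2 ≤ j → j ≤ numVars n → τ (eps n j) = eps n j + eps n 1 ^ (2 * j - 3))

include hτ1 hτ in
theorem tau_blk {i : Fin (numVars n)} (h : i ≠ i1 n) (c : ℕ) : τ (blk n i c) = blk n i c := by
  rw [blk_ne n h, map_pow, tau_ebar n τ hτ1 hτ]

include hτ1 hτ in
theorem tau_blk_even (c : ℕ) (hc : c % 2 = 0) : τ (blk n (i1 n) c) = blk n (i1 n) c := by
  rw [blk_i1, hc, pow_zero, one_mul, map_pow, tau_ebar n τ hτ1 hτ]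

include hτ1 hτ in
theorem tau_theta0_even {f : Fin (numVars n) →₀ ℕ} (hf : f (i1 n) % 2 = 0) :
    τ (theta0 n (monomial f 1)) = theta0 n (monomial f 1) := by
  by_cases hg : good n f
  · rw [theta0_of_good n hg, map_prod]
    refine Finset.prod_congr rfl fun i _ => ?_
    by_cases h : i = i1 n
    · subst h; exact tau_blk_even n τ hτ1 hτ _ hf
    · exact tau_blk n τ hτ1 hτ h _
  · rw [theta0_of_not_good n hg, map_zero]

include hτ1 hτ in
theorem tau_theta0_pi0 (p : FreeP n) : τ (theta0 n (pi0 n p)) = theta0 n (pi0 n p) := by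
  have : (τ.toLinearMap.comp ((theta0 n).comp (pi0 n))) = (theta0 n).comp (pi0 n) := ext_monomial _ _ fun f => by
    simp only [LinearMap.comp_apply, AlgHom.toLinearMap_apply]
    rw [pi0_monomial]
    split_ifs with h
    · exact tau_theta0_even n τ hτ1 hτ h
    · rw [map_zero, map_zero]
  exact DFunLike.congr_fun this p

include hτ1 hτ in
theorem add_tau_theta0 (p : FreeP n) : ∃ p', theta0 n p + τ (theta0 n p) = theta0 n (pi0 n p') := by
  have := induct (LinearMap.range ((theta0 n).comp (pi0 n))) (theta0 n + τ.toLinearMap.comp (theta0 n)) p (fun f _ => by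
    simp only [LinearMap.add_apply, LinearMap.comp_apply, AlgHom.toLinearMap_apply]
    by_cases hf : f (i1 n) % 2 = 0
    · rw [tau_theta0_even n τ hτ1 hτ hf, add_self]; exact Submodule.zero_mem _
    · by_cases hg : good n f
      · set g := f - Finsupp.single (i1 n) 1 with hgdef
        have hfg : ∀ j, j ≠ i1 n → f j = g j := fun j hj => by
          rw [hgdef, Finsupp.tsub_apply, Finsupp.single_apply, if_neg (Ne.symm hj), tsub_zero]
        have hg1 : g (i1 n) = f (i1 n) - 1 := by
          rw [hgdef, Finsupp.tsub_apply, Finsupp.single_eq_same]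
        have hg1e : g (i1 n) % 2 = 0 := by omega
        have hgg : good n g := by
          intro j
          by_cases h : j = i1 n
          · subst h; have := hg (i1 n); omega
          · rw [← hfg j h]; exact hg j
        have hblk : blk n (i1 n) (f (i1 n)) = v n (i1 n) * blk n (i1 n) (g (i1 n)) := by
          rw [blk_i1, blk_i1, hg1]
          have e1 : f (i1 n) % 2 = 1 := by omega
          have e2 : (f (i1 n) - 1) % 2 = 0 := by omega
          have e3 : (f (i1 n) - 1) / 2 = f (i1 n) / 2 := by omega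
          rw [e1, e2, e3]; ring
        have key : theta0 n (monomial f 1) = v n (i1 n) * theta0 n (monomial g 1) := by
          rw [theta0_of_good n hg, theta0_of_good n hgg]
          exact prod_split n (i1 n) f g hfg _ hblk
        refine ⟨X (i0 n) * monomial g 1, ?_⟩
        rw [LinearMap.comp_apply, pi0_X0, pi0_monomial, if_pos hg1e, theta0_X0, key, map_mul,
          tau_theta0_even n τ hτ1 hτ hg1e, tau_v1 n τ hτ]
        linear_combination (-v n (i1 n) * theta0 n (monomial g 1)) * two_eq_zero n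
      · rw [theta0_of_not_good n hg, map_zero, add_zero]; exact Submodule.zero_mem _)
  obtain ⟨p', hp'⟩ := this
  exact ⟨p', hp'.symm⟩

include hτ1 hτ in
theorem add_tau_dvd (m : ℕ) (y : P n) (hy : v n (i0 n) ^ m ∣ y + τ y) :
    ∃ z : P n, τ z = z ∧ y + τ y = v n (i0 n) ^ m * z := by
  obtain ⟨p, rfl⟩ := theta0_surjective n y
  obtain ⟨r, hr⟩ := hy
  obtain ⟨u, rfl⟩ := theta0_surjective n r
  obtain ⟨p', hp'⟩ := add_tau_theta0 n τ hτ1 hτ p
  refine ⟨theta0 n (pi0 n u), tau_theta0_pi0 n τ hτ1 hτ u, ?_⟩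
  rw [hp'] at hr ⊢
  rw [← theta0_X0_pow] at hr ⊢
  have h1 : theta0 n (pi0 n p' - X (i0 n) ^ m * u) = 0 := by rw [map_sub, hr, sub_self]
  have h2 := theta0_injective n h1
  have h3 := theta0_trunc n (pi0_trunc n h2)
  rw [map_sub, pi0_pi0, pi0_X0_pow, map_sub, sub_eq_zero] at h3
  exact h3

end tau

end K934.PnProj
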