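import Groth.Agent.QsChow.K934.PnKer
import Groth.Agent.QsChow.K934.PnArith

/-!
# The three special presentations
-/

set_option autoImplicit false
set_option linter.unusedSectionVars false

open MvPolynomial QsChow K934.PnBasic K934.PnInv K934.PnProj K934.PnPres K934.PnKer K934.PnArith

namespace K934.PnSpecial

variable (n : ℕ) [hF : Fact (2 ≤ n)]

section tau

variable (τ : P n →ₐ[ZMod 2] P n) (hτ1 : τ (eps n 1) = eps n 1)
    (hτ : ∀ j : ℕ, 2 ≤ j → j ≤ numVars n → τ (eps n j) = eps n j + eps n 1 ^ (2 * j - 3))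

include hτ1 hτ in
theorem mem_J_iff (k : ℕ) (q : FreeE n) :
    (∃ w : P n, τ w = w ∧ phi n q = v n (i0 n) ^ k * w) ↔
      q ∈ presIdeal n ⊔ Ideal.span {X (some (i0 n)) ^ k} := by
  constructor
  · rintro ⟨w, hw, h⟩
    obtain ⟨r, rfl⟩ := (fixed_iff n τ hτ1 hτ w).mp hw
    have h1 : q - X (some (i0 n)) ^ k * r ∈ presIdeal n := by
      rw [← ker_phi, RingHom.mem_ker, map_sub, map_mul, map_pow, phi_some, ebar_i0, h, sub_self]
    refine Submodule.mem_sup.mpr ⟨_, h1, X (some (i0 n)) ^ k * r, ?_, by ring⟩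
    exact Ideal.mul_mem_right _ _ (Ideal.mem_span_singleton_self _)
  · intro h
    obtain ⟨a, ha, b, hb, rfl⟩ := Submodule.mem_sup.mp h
    obtain ⟨r, rfl⟩ := Ideal.mem_span_singleton'.mp hb
    refine ⟨phi n r, tau_phi n τ hτ1 hτ r, ?_⟩
    have h1 : phi n a = 0 := presIdeal_le n ha
    rw [map_add, h1, zero_add, map_mul, map_pow, phi_some, ebar_i0, mul_comm]

end tau

/-- membership via `hrel` modulo an ideal containing enough. -/
theorem hrel_two_eq : hrel n 2 = X (some (i0 n)) ^ (2 ^ klog n 2 - n) * X none + sPoly n 2 := by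
  unfold hrel; rw [if_pos rfl, evar_one]; rfl

theorem hrel_ge_eq {i : Fin (numVars n)} (h0 : i ≠ i0 n) (h1 : i ≠ i1 n) :
    hrel n (i.val + 1) = X (some i) ^ 2 ^ klog n (i.val + 1) +
      X (some (i0 n)) ^ ((2 * (i.val + 1) - 3) * 2 ^ klog n (i.val + 1) - n) * X none +
      X (some (i0 n)) ^ ((2 * (i.val + 1) - 4) * 2 ^ klog n (i.val + 1)) * sPoly n (i.val + 1) := by
  have a0 : i.val ≠ 0 := fun h => h0 (Fin.ext h)
  have a1 : i.val ≠ 1 := fun h => h1 (Fin.ext h)
  unfold hrel
  rw [if_neg (by omega), if_pos ⟨by omega, i.isLt⟩, evar_succ, evar_one]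
  rfl

theorem hrel_i0 : hrel n ((i0 n).val + 1) = 0 := by
  unfold hrel; simp [i0]

/-- `S_j` splits off its last term. -/
theorem sPoly_split {j : ℕ} (hk : 1 ≤ klog n j) : sPoly n j =
    (∑ t ∈ Finset.range (klog n j - 1), X (some (i0 n)) ^ (2 ^ klog n j - 2 ^ (t + 1)) * X (some (i1 n)) ^ 2 ^ t) +
      X (some (i1 n)) ^ 2 ^ (klog n j - 1) := by
  unfold sPoly
  obtain ⟨k, hk'⟩ : ∃ k, klog n j = k + 1 := ⟨klog n j - 1, by omega⟩
  rw [hk', Finset.sum_range_succ, Nat.add_sub_cancel, Nat.sub_self, pow_zero, one_mul, evar_one, evar_two]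

/-- the non leading part of `S_j` is divisible by `e_1^(2^(k_j-1))` -/
theorem sPoly_low_mem {A : Type*} [CommRing A] (a b : A) (k m : ℕ) (hm : m ≤ 2 ^ (k - 1)) :
    (∑ t ∈ Finset.range (k - 1), a ^ (2 ^ k - 2 ^ (t + 1)) * b ^ 2 ^ t) ∈ Ideal.span {a ^ m} := by
  refine Ideal.sum_mem _ fun t ht => Ideal.mul_mem_right _ _ ?_
  have ht' := Finset.mem_range.mp ht
  rw [Ideal.mem_span_singleton]
  apply pow_dvd_pow
  have h1 : 2 ^ (t + 1) ≤ 2 ^ (k - 1) := Nat.pow_le_pow_right (by norm_num) (by omega)
  have h2 : 2 ^ k = 2 ^ (k - 1) * 2 := by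
    rw [← pow_succ]; congr 1; omega
  omega

/-! ### `n` odd -/

theorem oddIdeal_gen (i : Fin (numVars n)) : X (some i) ^ 2 ^ kprime n (i.val + 1) ∈ oddIdeal n := by
  rw [← evar_succ]
  exact Ideal.subset_span (Or.inr ⟨i, rfl⟩)

theorem odd_J (ho : Odd n) : presIdeal n ⊔ Ideal.span {X (some (i0 n)) ^ 1} = oddIdeal n := by
  have hn := hF.out
  have hx2 : (X none ^ 2 : FreeE n) ∈ oddIdeal n := Ideal.subset_span (Or.inl (by simp [xvar]))
  have he0 : (X (some (i0 n)) : FreeE n) ∈ oddIdeal n := by
    rw [← evar_one]; exact Ideal.subset_span (Or.inl (by simp))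
  have hk2 : 1 ≤ klog n 2 := klog_pos hn (le_refl 2) (numVars_ge hn)
  apply le_antisymm
  · apply sup_le
    · unfold presIdeal
      rw [Ideal.span_le]
      rintro q (hq | ⟨i, rfl⟩)
      · simp only [Set.mem_insert_iff, Set.mem_singleton_iff] at hq
        rcases hq with rfl | rfl | rfl
        · rw [evar_one]; exact Ideal.pow_mem_of_mem _ he0 _ (by omega)
        · rw [evar_one]; exact Ideal.mul_mem_right _ _ he0
        · exact hx2
      · by_cases h0 : i = i0 n
        · subst h0; change hrel n ((i0 n).val + 1) ∈ _; rw [hrel_i0]; exact Ideal.zero_mem _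
        by_cases h1 : i = i1 n
        · subst h1
          change hrel n 2 ∈ _
          have hlt := klog_two_lt hn (odd_not_pow hn ho)
          rw [hrel_two_eq, sPoly_split n hk2]
          refine Ideal.add_mem _ (Ideal.mul_mem_right _ _ (Ideal.pow_mem_of_mem _ he0 _ (by omega)))
            (Ideal.add_mem _ ?_ ?_)
          · have := sPoly_low_mem (X (some (i0 n)) : FreeE n) (X (some (i1 n))) (klog n 2) 1 Nat.one_le_two_pow
            rw [pow_one] at this
            exact (Ideal.span_singleton_le_iff_mem _).mpr he0 this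
          · have := oddIdeal_gen n (i1 n)
            have e : kprime n ((i1 n).val + 1) = klog n 2 - 1 := by
              rw [klog_two hn (odd_not_pow hn ho)]; rfl
            rwa [e] at this
        · have a0 : i.val ≠ 0 := fun h => h0 (Fin.ext h)
          have a1 : i.val ≠ 1 := fun h => h1 (Fin.ext h)
          change hrel n (i.val + 1) ∈ _
          have hne := odd_ne (j := i.val + 1) ho (by omega) i.isLt
          have hlt := lt_klog hn (j := i.val + 1) (by omega) hne
          rw [hrel_ge_eq n h0 h1]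
          refine Ideal.add_mem _ (Ideal.add_mem _ ?_ (Ideal.mul_mem_right _ _ (Ideal.pow_mem_of_mem _ he0 _ (by omega))))
            (Ideal.mul_mem_right _ _ (Ideal.pow_mem_of_mem _ he0 _ ?_))
          · have := oddIdeal_gen n i
            rwa [← klog_ge hn (by omega) i.isLt hne] at this
          · have := Nat.one_le_two_pow (n := klog n (i.val + 1))
            exact Nat.mul_pos (by omega) (by omega)
    · rw [pow_one, Ideal.span_singleton_le_iff_mem]; exact he0
  · set J := presIdeal n ⊔ Ideal.span {(X (some (i0 n)) : FreeE n) ^ 1} with hJ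
    have he0J : (X (some (i0 n)) : FreeE n) ∈ J := by
      refine Ideal.mem_sup_right ?_
      rw [pow_one]; exact Ideal.mem_span_singleton_self _
    have hhr : ∀ i : Fin (numVars n), hrel n (i.val + 1) ∈ J := fun i => Ideal.mem_sup_left (hrel_mem n i)
    unfold oddIdeal
    rw [Ideal.span_le]
    rintro q (hq | ⟨i, rfl⟩)
    · simp only [Set.mem_insert_iff, Set.mem_singleton_iff] at hq
      rcases hq with rfl | rfl
      · rw [evar_one]; exact he0J
      · exact Ideal.mem_sup_left (x_sq_mem n)
    · change evar n (i.val + 1) ^ 2 ^ kprime n (i.val + 1) ∈ J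
      rw [evar_succ]
      by_cases h0 : i = i0 n
      · subst h0; exact Ideal.pow_mem_of_mem _ he0J _ (by positivity)
      by_cases h1 : i = i1 n
      · subst h1
        have h := hhr (i1 n)
        have hlt := klog_two_lt hn (odd_not_pow hn ho)
        have e2 : (i1 n).val + 1 = 2 := rfl
        rw [e2] at h ⊢
        rw [hrel_two_eq, sPoly_split n hk2] at h
        have h3 := (Ideal.add_mem_iff_right _ (Ideal.mul_mem_right _ _ (Ideal.pow_mem_of_mem _ he0J _ (by omega)))).mp h
        have h4 := sPoly_low_mem (X (some (i0 n)) : FreeE n) (X (some (i1 n))) (klog n 2) 1 Nat.one_le_two_pow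
        rw [pow_one] at h4
        have h5 := (Ideal.add_mem_iff_right _ ((Ideal.span_singleton_le_iff_mem _).mpr he0J h4)).mp h3
        rwa [klog_two hn (odd_not_pow hn ho), Nat.add_sub_cancel] at h5
      · have a0 : i.val ≠ 0 := fun h => h0 (Fin.ext h)
        have a1 : i.val ≠ 1 := fun h => h1 (Fin.ext h)
        have hne := odd_ne (j := i.val + 1) ho (by omega) i.isLt
        have hlt := lt_klog hn (j := i.val + 1) (by omega) hne
        have h := hhr i
        have hkk : klog n (i.val + 1) = kprime n (i.val + 1) := klog_ge hn (by omega) i.isLt hne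
        rw [hrel_ge_eq n h0 h1, hkk] at h
        rw [hkk] at hlt
        refine (Ideal.add_mem_iff_left _ ?_).mp ((Ideal.add_mem_iff_left _ ?_).mp h)
        · exact Ideal.mul_mem_right _ _ (Ideal.pow_mem_of_mem _ he0J _ (by omega))
        · refine Ideal.mul_mem_right _ _ (Ideal.pow_mem_of_mem _ he0J _ ?_)
          have := Nat.one_le_two_pow (n := kprime n (i.val + 1))
          exact Nat.mul_pos (by omega) (by omega)

/-! ### `n` even, not a power of two -/

/-- the comparison map `F_2[e_1, …, e_s] → F_2[e_1, …, e_s, x]` -/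
noncomputable def iota : FreeP n →ₐ[ZMod 2] FreeE n := MvPolynomial.aeval (fun i => X (some i))

theorem iota_X (i : Fin (numVars n)) : iota n (X i) = X (some i) := by unfold iota; rw [aeval_X]

/-- substituting `x` -/
noncomputable def rho (a : FreeP n) : FreeE n →ₐ[ZMod 2] FreeP n :=
  MvPolynomial.aeval (fun o => o.elim a X)

theorem rho_some (a : FreeP n) (i : Fin (numVars n)) : rho n a (X (some i)) = X i := by
  unfold rho; rw [aeval_X]; rfl

theorem rho_none (a : FreeP n) : rho n a (X none) = a := by unfold rho; rw [aeval_X]; rfl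

theorem rho_iota (a : FreeP n) (q : FreeP n) : rho n a (iota n q) = q := by
  have : (rho n a).comp (iota n) = AlgHom.id _ _ := MvPolynomial.algHom_ext fun i => by
    rw [AlgHom.comp_apply, iota_X, rho_some, AlgHom.id_apply]
  exact DFunLike.congr_fun this q

theorem psi_eq (q : FreeP n) : psi n q = phi n (iota n q) := by
  have : (phi n).comp (iota n) = psi n := MvPolynomial.algHom_ext fun i => by
    rw [AlgHom.comp_apply, iota_X, phi_some]; unfold psi; rw [aeval_X]; rfl
  exact (DFunLike.congr_fun this q).symm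

theorem iota_mem_iff (a : FreeP n) (J : Ideal (FreeE n)) (K : Ideal (FreeP n))
    (h1 : J ≤ K.comap (rho n a)) (h2 : K ≤ J.comap (iota n)) (q : FreeP n) : iota n q ∈ J ↔ q ∈ K := by
  constructor
  · intro h
    have := h1 h
    rwa [Ideal.mem_comap, rho_iota] at this
  · intro h; exact h2 h

theorem sub_iota_rho (a : FreeP n) (J : Ideal (FreeE n)) (h : X none - iota n a ∈ J) (q : FreeE n) :
    q - iota n (rho n a q) ∈ J := by
  induction q using MvPolynomial.induction_on with
  | C c =>
    have e : iota n (rho n a (C c)) = C c := by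
      have : (C c : FreeE n) = algebraMap _ _ c := rfl
      rw [this, AlgHom.commutes, AlgHom.commutes]
    rw [e, sub_self]; exact J.zero_mem
  | add p q hp hq =>
    have : p + q - iota n (rho n a (p + q)) = (p - iota n (rho n a p)) + (q - iota n (rho n a q)) := by
      rw [map_add, map_add]; ring
    rw [this]; exact J.add_mem hp hq
  | mul_X p o hp =>
    have ho : (X o : FreeE n) - iota n (rho n a (X o)) ∈ J := by
      cases o with
      | none => rwa [rho_none]
      | some i => rw [rho_some, iota_X, sub_self]; exact J.zero_mem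
    have : p * X o - iota n (rho n a (p * X o)) =
        (p - iota n (rho n a p)) * X o + iota n (rho n a p) * (X o - iota n (rho n a (X o))) := by
      rw [map_mul, map_mul]; ring
    rw [this]
    exact J.add_mem (J.mul_mem_right _ hp) (J.mul_mem_left _ ho)

theorem evarE_succ (i : Fin (numVars n)) : evarE n (i.val + 1) = X i := by
  unfold evarE
  rw [dif_pos ⟨Nat.succ_pos _, i.isLt⟩]
  rfl

theorem evarE_one : evarE n 1 = X (i0 n) := evarE_succ n (i0 n)

theorem evarE_two : evarE n 2 = X (i1 n) := evarE_succ n (i1 n)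

/-- data for the exceptional index -/
theorem even_data (hne : n ≠ 2 ^ twoExp n) (ha : 1 ≤ twoExp n) : ∃ l : Fin (numVars n), l.val + 1 = lIdx n ∧ 2 ≤ l.val ∧
    n = 2 ^ twoExp n * (2 * (l.val + 1) - 3) := by
  have hn := hF.out
  obtain ⟨h1, h2⟩ := twoExp_spec (n := n) (by omega)
  set c := n / 2 ^ twoExp n with hc
  have hc1 : c ≠ 1 := by intro h; rw [h, mul_one] at h1; exact hne h1
  obtain ⟨d, hd⟩ := h2
  have hd1 : 1 ≤ d := by omega
  have hl : lIdx n = d + 2 := by
    unfold lIdx; rw [← hc, hd]; omega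
  have h2a : 2 ≤ 2 ^ twoExp n := by
    calc 2 = 2 ^ 1 := rfl
      _ ≤ _ := Nat.pow_le_pow_right (by norm_num) ha
  have h3 : 2 * c ≤ n := by
    calc 2 * c ≤ 2 ^ twoExp n * c := Nat.mul_le_mul_right _ h2a
      _ = n := h1.symm
  refine ⟨⟨d + 1, ?_⟩, ?_, ?_, ?_⟩
  · unfold numVars; omega
  · rw [hl]
  · change 2 ≤ d + 1; omega
  · have : 2 * (d + 1 + 1) - 3 = c := by omega
    change n = 2 ^ twoExp n * (2 * (d + 1 + 1) - 3)
    rw [this]; exact h1

end K934.PnSpecial
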