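import Groth.Prelude.Def_W4c4chowquasisplitNorm
import Groth.Agent.CycB.Push
import Mathlib.RingTheory.LocalRing.ResidueField.Ideal
import Mathlib.FieldTheory.Galois.Basic
import Mathlib.GroupTheory.Index
import Mathlib.GroupTheory.Sylow
import Mathlib.GroupTheory.Archimedean
import Mathlib.Data.ZMod.QuotientGroup

/-!
# The norm subgroup of the Chow group of a point
-/

set_option autoImplicit false
universe u
open CategoryTheory CategoryTheory.Limits AlgebraicGeometry

namespace K934.PtNorm

open Groth.Agent.CycB.Push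

/-- the map from a field to the residue field at the point of its spectrum -/
noncomputable def ev (k : Type u) [Field k] (x : Spec (CommRingCat.of k)) :
    k →+* (Spec (CommRingCat.of k)).residueField x :=
  ((Scheme.ΓSpecIso (CommRingCat.of k)).inv ≫ (Spec (CommRingCat.of k)).Γevaluation x).hom

theorem ev_bijective (k : Type u) [Field k] (x : Spec (CommRingCat.of k)) : Function.Bijective (ev k x) := by
  refine ⟨RingHom.injective _, ?_⟩
  have h := Scheme.Spec.algebraMap_residueFieldIso_inv (CommRingCat.of k) x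
  have hmax : x.asIdeal.IsMaximal := by
    have : x.asIdeal = ⊥ := (Ideal.eq_bot_or_top x.asIdeal).resolve_right x.2.ne_top
    rw [this]; exact Ideal.bot_isMaximal
  have h1 : Function.Surjective (algebraMap k x.asIdeal.ResidueField) := by
    have h2 := (Ideal.bijective_algebraMap_quotient_residueField x.asIdeal).2
    have h3 : Function.Surjective (algebraMap k (k ⧸ x.asIdeal)) := Ideal.Quotient.mk_surjective
    have h4 : algebraMap k x.asIdeal.ResidueField = (algebraMap (k ⧸ x.asIdeal) x.asIdeal.ResidueField).comp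
        (algebraMap k (k ⧸ x.asIdeal)) := IsScalarTower.algebraMap_eq _ _ _
    rw [h4]; exact h2.comp h3
  have h5 : ev k x = (Scheme.Spec.residueFieldIso (CommRingCat.of k) x).inv.hom.comp
      (algebraMap k x.asIdeal.ResidueField) := by
    have := congrArg CommRingCat.Hom.hom h
    exact this.symm
  rw [h5]
  exact (ConcreteCategory.bijective_of_isIso (Scheme.Spec.residueFieldIso (CommRingCat.of k) x).inv).2.comp h1

theorem residueDegree_spec (k F : Type u) [Field k] [Field F] [Algebra k F] (x : Spec (CommRingCat.of F)) :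
    (Spec.map (CommRingCat.ofHom (algebraMap k F))).residueDegree x = Module.finrank k F := by
  set f := Spec.map (CommRingCat.ofHom (algebraMap k F)) with hf
  unfold Scheme.Hom.residueDegree
  let i1 : Algebra ((Spec (CommRingCat.of k)).residueField (f x)) ((Spec (CommRingCat.of F)).residueField x) :=
    (f.residueFieldMap x).hom.toAlgebra
  symm
  refine Algebra.finrank_eq_of_equiv_equiv (RingEquiv.ofBijective _ (ev_bijective k (f x)))
    (RingEquiv.ofBijective _ (ev_bijective F x)) ?_
  have h1 : (Scheme.ΓSpecIso (CommRingCat.of k)).inv ≫ (Spec (CommRingCat.of k)).Γevaluation (f x) ≫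
      f.residueFieldMap x = CommRingCat.ofHom (algebraMap k F) ≫ (Scheme.ΓSpecIso (CommRingCat.of F)).inv ≫
      (Spec (CommRingCat.of F)).Γevaluation x := by
    rw [Scheme.Γevaluation_naturality, ← Category.assoc, ← Category.assoc]
    congr 1
    exact (Scheme.ΓSpecIso_inv_naturality _).symm
  ext a
  have h2 := congrArg (fun φ => φ.hom a) h1
  exact h2


instance (k : Type u) [Field k] : Unique (Spec (CommRingCat.of k)) := inferInstanceAs (Unique (PrimeSpectrum k))

theorem ratEquivZero_pt (k : Type u) [Field k] (α : AlgebraicCycle (Spec (CommRingCat.of k)) ℤ)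
    (h : Cyc.RatEquivZero (fun _ => (0 : ℤ)) 0 α) : α = 0 := by
  obtain ⟨ι, ξ, f, hξ, -, -, h⟩ := h
  have : IsEmpty ι := ⟨fun i => by
    have h1 : (0 : ℤ) = 0 + 1 := hξ i
    omega⟩
  ext x
  rw [h x, finsum_of_isEmpty]
  rfl

/-- evaluation of cycles at the point -/
noncomputable def evZk (k : Type u) [Field k] : ↥(ChowOps.zk (Spec (CommRingCat.of k)) (fun _ => 0) 0) →+ ℤ where
  toFun α := α.1 default
  map_zero' := rfl
  map_add' _ _ := rfl

/-- the degree isomorphism as a homomorphism -/
noncomputable def evCH (k : Type u) [Field k] : ChowOps.CH (Spec (CommRingCat.of k)) (fun _ => 0) 0 →+ ℤ :=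
  QuotientAddGroup.lift _ (evZk k) (by
    unfold ChowOps.ratTriv
    rw [AddSubgroup.closure_le]
    intro α hα
    have : α.1 = 0 := ratEquivZero_pt k _ hα
    change α.1 default = 0
    rw [this]; rfl)

theorem evCH_cl (k : Type u) [Field k] (α : AlgebraicCycle (Spec (CommRingCat.of k)) ℤ)
    (h : α ∈ Cyc.Zk (Spec (CommRingCat.of k)) (fun _ => 0) 0) : evCH k (ChowOps.cl α h) = α default := rfl

theorem mem_Zk_pt (k : Type u) [Field k] (α : AlgebraicCycle (Spec (CommRingCat.of k)) ℤ) :
    α ∈ Cyc.Zk (Spec (CommRingCat.of k)) (fun _ => 0) 0 := fun x hx => absurd rfl hx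

/-- constant cycle on the point -/
noncomputable def cst (k : Type u) [Field k] (m : ℤ) : AlgebraicCycle (Spec (CommRingCat.of k)) ℤ where
  toFun := fun _ => m
  supportWithinDomain' := Set.subset_univ _
  supportLocallyFiniteWithinDomain' := fun _ _ => ⟨Set.univ, Filter.univ_mem, Set.toFinite _⟩

theorem evCH_bijective (k : Type u) [Field k] : Function.Bijective (evCH k) := by
  constructor
  · rw [injective_iff_map_eq_zero]
    intro c hc
    obtain ⟨⟨α, hα⟩, rfl⟩ := QuotientAddGroup.mk_surjective c
    have h0 : α default = 0 := hc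
    have : (⟨α, hα⟩ : ↥(ChowOps.zk (Spec (CommRingCat.of k)) (fun _ => 0) 0)) = 0 := by
      apply Subtype.ext
      ext x
      rw [Subsingleton.elim x default]; exact h0
    rw [this]; rfl
  · intro m
    exact ⟨ChowOps.cl (cst k m) (mem_Zk_pt k _), rfl⟩

theorem map_pt (k F : Type u) [Field k] [Field F] [Algebra k F] (α : AlgebraicCycle (Spec (CommRingCat.of F)) ℤ) :
    AlgebraicCycle.map (Spec.map (CommRingCat.ofHom (algebraMap k F))) (fun _ => (0 : ℤ)) (fun _ => (0 : ℤ)) α default =
      α default * (Module.finrank k F : ℤ) := by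
  rw [map_apply]
  have : {x : Spec (CommRingCat.of F) | Spec.map (CommRingCat.ofHom (algebraMap k F)) x = default} = {default} := by
    ext x
    simp only [Set.mem_singleton_iff]
    constructor
    · intro _; exact Subsingleton.elim _ _
    · intro _; exact Subsingleton.elim _ _
  rw [this, finsum_mem_singleton]
  congr 2
  unfold AlgebraicCycle.mapCoeff
  rw [if_pos rfl, residueDegree_spec]

section main

variable (k : Type u) [Field k] (K : Type u) [Field K] [Algebra k K]

theorem mem_of_ev {F : IntermediateField k K} [FiniteDimensional k F] (hF : F ≠ ⊥) (a : ℤ)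
    (c : ChowOps.CH (Spec (CommRingCat.of k)) (fun _ => 0) 0) (hc : evCH k c = a * (Module.finrank k F : ℤ)) :
    c ∈ QsChow.ptNormSubgroup k K := by
  refine AddSubgroup.subset_closure ⟨F, inferInstance, hF, cst F a, mem_Zk_pt k _, ?_⟩
  apply (evCH_bijective k).1
  rw [hc, evCH_cl, map_pt]
  rfl

theorem ev_of_mem (n : ℤ) (hn : ∀ F : IntermediateField k K, FiniteDimensional k F → F ≠ ⊥ →
    n ∣ (Module.finrank k F : ℤ)) (c : ChowOps.CH (Spec (CommRingCat.of k)) (fun _ => 0) 0)
    (hc : c ∈ QsChow.ptNormSubgroup k K) : n ∣ evCH k c := by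
  have : QsChow.ptNormSubgroup k K ≤ (AddSubgroup.zmultiples n).comap (evCH k) := by
    unfold QsChow.ptNormSubgroup
    rw [AddSubgroup.closure_le]
    rintro _ ⟨F, hF1, hF2, α, h, rfl⟩
    rw [SetLike.mem_coe, AddSubgroup.mem_comap, evCH_cl, map_pt, Int.mem_zmultiples_iff]
    exact Dvd.dvd.mul_left (hn F hF1 hF2) _
  have h := this hc
  rwa [AddSubgroup.mem_comap, Int.mem_zmultiples_iff] at h

/-- the degree group -/
noncomputable def degGrp : AddSubgroup ℤ := (QsChow.ptNormSubgroup k K).map (evCH k)

theorem finrank_mem_degGrp {F : IntermediateField k K} [FiniteDimensional k F] (hF : F ≠ ⊥) :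
    (Module.finrank k F : ℤ) ∈ degGrp k K := by
  obtain ⟨c, hc⟩ := (evCH_bijective k).2 (Module.finrank k F : ℤ)
  exact ⟨c, mem_of_ev k K hF 1 c (by rw [hc, one_mul]), hc⟩

theorem index_eq : (QsChow.ptNormSubgroup k K).index = (degGrp k K).index :=
  (AddSubgroup.index_map_of_bijective (evCH_bijective k) _).symm

variable (L : IntermediateField k K) [FiniteDimensional k L] [IsGalois k L]

omit [IsGalois k L] in
theorem lift_data (H : Subgroup (↥L ≃ₐ[k] ↥L)) :
    Module.finrank k ↥(IntermediateField.lift (IntermediateField.fixedField H)) * Nat.card H = Module.finrank k L := by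
  have h1 : Module.finrank k ↥(IntermediateField.lift (IntermediateField.fixedField H)) =
      Module.finrank k ↥(IntermediateField.fixedField H) :=
    (IntermediateField.liftAlgEquiv (IntermediateField.fixedField H)).toLinearEquiv.finrank_eq.symm
  rw [h1, ← IntermediateField.finrank_fixedField_eq_card H]
  exact Module.finrank_mul_finrank k _ _


omit [IsGalois k L] in
theorem lift_ne_bot (H : Subgroup (↥L ≃ₐ[k] ↥L)) (h : Nat.card H ≠ Module.finrank k L) :
    IntermediateField.lift (IntermediateField.fixedField H) ≠ ⊥ := by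
  intro h1
  apply h
  have h2 := lift_data k K L H
  rw [h1, IntermediateField.finrank_bot, one_mul] at h2
  exact h2

instance (H : Subgroup (↥L ≃ₐ[k] ↥L)) :
    FiniteDimensional k ↥(IntermediateField.lift (IntermediateField.fixedField H)) :=
  LinearEquiv.finiteDimensional (IntermediateField.liftAlgEquiv (IntermediateField.fixedField H)).toLinearEquiv

theorem card_eq : Nat.card (↥L ≃ₐ[k] ↥L) = Module.finrank k L := IsGalois.card_aut_eq_finrank k L

theorem top_of_not_primePow (hL : ∀ p n : ℕ, p.Prime → Module.finrank k L ≠ p ^ n) :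
    QsChow.ptNormSubgroup k K = ⊤ := by
  obtain ⟨d, hd⟩ := Int.subgroup_cyclic (degGrp k K)
  rw [← AddSubgroup.zmultiples_eq_closure] at hd
  have hdvd : ∀ F : IntermediateField k K, FiniteDimensional k F → F ≠ ⊥ → d ∣ (Module.finrank k F : ℤ) := by
    intro F _ hF
    have := finrank_mem_degGrp k K hF
    rwa [hd, Int.mem_zmultiples_iff] at this
  have hunit : d.natAbs = 1 := by
    by_contra hne
    obtain ⟨p, hp, hpd⟩ := Nat.exists_prime_and_dvd hne
    haveI : Fact p.Prime := ⟨hp⟩
    obtain ⟨P⟩ : Nonempty (Sylow p (↥L ≃ₐ[k] ↥L)) := inferInstance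
    have hcard : Nat.card (P : Subgroup (↥L ≃ₐ[k] ↥L)) ≠ Module.finrank k L := by
      obtain ⟨n, hn⟩ := IsPGroup.iff_card.mp P.isPGroup'
      rw [hn]
      exact (hL p n hp).symm
    have h1 := hdvd _ inferInstance (lift_ne_bot k K L (P : Subgroup (↥L ≃ₐ[k] ↥L)) hcard)
    have h2 : p ∣ Module.finrank k ↥(IntermediateField.lift (IntermediateField.fixedField (P : Subgroup (↥L ≃ₐ[k] ↥L)))) := by
      have h3 := Int.natAbs_dvd_natAbs.mpr h1
      rw [Int.natAbs_natCast] at h3
      exact hpd.trans h3
    have h4 := lift_data k K L (P : Subgroup (↥L ≃ₐ[k] ↥L))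
    have h5 := Subgroup.card_mul_index (P : Subgroup (↥L ≃ₐ[k] ↥L))
    rw [card_eq, ← h4, mul_comm] at h5
    have h6 : (P : Subgroup (↥L ≃ₐ[k] ↥L)).index = _ := Nat.eq_of_mul_eq_mul_right Nat.card_pos h5
    rw [← h6] at h2
    exact Sylow.not_dvd_index P h2
  have htop : degGrp k K = ⊤ := by
    rw [hd, eq_top_iff]
    intro m _
    rw [Int.mem_zmultiples_iff]
    exact (Int.natAbs_dvd_natAbs).mp (by rw [hunit]; exact one_dvd _)
  have hidx := index_eq k K
  rw [htop, AddSubgroup.index_top] at hidx
  exact AddSubgroup.index_eq_one.mp hidx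

theorem index_eq_prime (p n : ℕ) (hp : p.Prime) (hn : 1 ≤ n) (hL : Module.finrank k L = p ^ n)
    (hF : ∀ F : IntermediateField k K, FiniteDimensional k F → ∃ e : ℕ, Module.finrank k F = p ^ e) :
    (QsChow.ptNormSubgroup k K).index = p := by
  haveI : Fact p.Prime := ⟨hp⟩
  have h1 : degGrp k K = AddSubgroup.zmultiples (p : ℤ) := by
    apply le_antisymm
    · rintro _ ⟨c, hc, rfl⟩
      rw [Int.mem_zmultiples_iff]
      refine ev_of_mem k K p (fun F hF1 hF2 => ?_) c hc
      obtain ⟨e, he⟩ := hF F hF1
      have he0 : e ≠ 0 := by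
        rintro rfl
        rw [pow_zero] at he
        exact hF2 (IntermediateField.finrank_eq_one_iff.mp he)
      rw [he]
      exact_mod_cast dvd_pow_self p he0
    · rw [AddSubgroup.zmultiples_le]
      obtain ⟨H, hH⟩ := Sylow.exists_subgroup_card_pow_prime (G := ↥L ≃ₐ[k] ↥L) p (n := n - 1)
        (by rw [card_eq, hL]; exact pow_dvd_pow p (by omega))
      have hne : Nat.card H ≠ Module.finrank k L := by
        rw [hH, hL]
        intro h
        have := Nat.pow_right_injective hp.two_le h
        omega
      have h2 := finrank_mem_degGrp k K (lift_ne_bot k K L H hne)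
      have h3 := lift_data k K L H
      have h4 : p ^ n = p * p ^ (n - 1) := by rw [← pow_succ']; congr 1; omega
      rw [hH, hL, h4] at h3
      have h5 := Nat.eq_of_mul_eq_mul_right (by have := hp.pos; positivity) h3
      rw [h5] at h2
      exact h2
  rw [index_eq, h1, Int.index_zmultiples, Int.natAbs_natCast]

end main

end K934.PtNorm
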